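import Cfsg.Agent.LieTori.RankBoundInst

/-!
Integer matrices with eigenvalues of order twelve modulo 13 and of order four modulo 5; the groups fixing such
an eigenvector (owner: helper87).
-/

set_option autoImplicit false
set_option linter.style.haveILetI false

namespace Cfsg.Agent.CycTori

open Cfsg.Lie Cfsg.Agent.ChevGrp Cfsg.Agent.LieTori Polynomial
open Matrix hiding col

instance factPrimeThirteen : Fact (Nat.Prime 13) := ⟨by norm_num⟩

instance factPrimeFive : Fact (Nat.Prime 5) := ⟨by norm_num⟩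

theorem eval_twelve {R : Type*} [CommRing R] (a : R) : (cyclotomic 12 R).eval a = a ^ 4 - a ^ 2 + 1 := by
  have h : cyclotomic 12 ℤ = X ^ 4 - X ^ 2 + 1 := by
    have h1 := cyclotomic_expand_eq_cyclotomic (p := 2) Nat.prime_two (n := 6) (by norm_num) ℤ
    rw [cyclotomic_six, show 6 * 2 = 12 by norm_num] at h1
    rw [← h1, map_add, map_sub, map_pow, expand_X, map_one]
    ring
  rw [← map_cyclotomic_int, h]
  simp

/-- An integer matrix of finite order and size 7 with eigenvalue `2` modulo 13 and modulo 5 has `Φ₁₂Φ₄` in its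
characteristic polynomial. -/
theorem twelve_four_dvd {N : ℕ} {M : Matrix (Fin 7) (Fin 7) ℤ} (hM : M ^ N = 1) (hN : ¬ 13 ∣ N)
    {x : Fin 7 → ZMod 13} (hx : x ∈ eigMod M 2) (hx0 : x ≠ 0)
    {y : Fin 7 → ZMod 5} (hy : y ∈ eigMod M 2) (hy0 : y ≠ 0) :
    cyclotomic 12 ℤ * cyclotomic 4 ℤ ∣ M.charpoly := by
  classical
  have hNpos : 0 < N := Nat.pos_of_ne_zero fun h => hN (h ▸ dvd_zero 13)
  have h12 : orderOf (2 : ZMod 13) = 12 := by
    rw [orderOf_eq_iff (by norm_num)]
    exact ⟨by decide, by decide⟩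
  have hf : Module.finrank (ZMod 13) (eigMod M (2 : ZMod 13)) ≠ 0 := by
    rw [Ne, Submodule.finrank_eq_zero]
    exact fun hb => hx0 ((Submodule.mem_bot _).1 (hb ▸ hx))
  obtain ⟨g, hg⟩ := (dvd_pow_self _ hf).trans (cyclotomic_pow_dvd_charpoly hM hN (by norm_num) h12)
  rw [hg]
  refine mul_dvd_mul_left _ ?_
  have hgm : g.Monic := (cyclotomic.monic 12 ℤ).of_mul_monic_left (hg ▸ M.charpoly_monic)
  have hgd : g.natDegree = 3 := by
    have h := congrArg natDegree hg
    rw [M.charpoly_natDegree_eq_dim, Fintype.card_fin, (cyclotomic.monic 12 ℤ).natDegree_mul hgm,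
      natDegree_cyclotomic, show Nat.totient 12 = 4 by decide] at h
    omega
  let φ := Int.castRingHom (ZMod 5)
  have hroot : (g.map φ).eval 2 = 0 := by
    have h1 : Module.finrank (ZMod 5) (eigMod M (2 : ZMod 5)) ≠ 0 := by
      rw [Ne, Submodule.finrank_eq_zero]
      exact fun hb => hy0 ((Submodule.mem_bot _).1 (hb ▸ hy))
    have h2 : (M.charpoly.map φ).IsRoot 2 :=
      (rootMultiplicity_pos (M.charpoly_monic.map φ).ne_zero).1
        ((Nat.pos_of_ne_zero h1).trans_le (finrank_eigMod_le M 2))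
    rw [hg, Polynomial.map_mul, IsRoot, eval_mul, map_cyclotomic, eval_twelve] at h2
    exact (mul_eq_zero.1 h2).resolve_left (by decide)
  by_contra hno
  let S := (Finset.range (N + 1)).filter fun d => 0 < d ∧ cyclotomic d ℤ ∣ g
  have hgS : g ∣ ∏ d ∈ S, cyclotomic d ℤ ^ 7 := by
    have hsplit : ∏ d ∈ N.divisors, cyclotomic d ℤ ^ 7 =
        (∏ d ∈ N.divisors.filter (fun d => cyclotomic d ℤ ∣ g), cyclotomic d ℤ ^ 7) *
          ∏ d ∈ N.divisors.filter (fun d => ¬ cyclotomic d ℤ ∣ g), cyclotomic d ℤ ^ 7 :=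
      (Finset.prod_filter_mul_prod_filter_not _ _ _).symm
    have h1 : g ∣ ∏ d ∈ N.divisors, cyclotomic d ℤ ^ 7 := by
      rw [Finset.prod_pow, prod_cyclotomic_eq_X_pow_sub_one hNpos]
      exact (dvd_of_mul_left_eq _ hg.symm).trans (charpoly_dvd_pow M hM)
    rw [hsplit] at h1
    refine (IsRelPrime.dvd_of_dvd_mul_right ?_ h1).trans (Finset.prod_dvd_prod_of_subset _ _ _ ?_)
    · refine IsRelPrime.prod_right fun d hd => ?_
      have hd0 : 0 < d := Nat.pos_of_mem_divisors (Finset.mem_filter.1 hd).1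
      exact ((cyclotomic.irreducible hd0).isRelPrime_iff_not_dvd.2 (Finset.mem_filter.1 hd).2).symm.pow_right
    · intro d hd
      obtain ⟨hdiv, hdg⟩ := Finset.mem_filter.1 hd
      exact Finset.mem_filter.2 ⟨Finset.mem_range.2 (Nat.lt_succ_of_le (Nat.divisor_le hdiv)),
        Nat.pos_of_mem_divisors hdiv, hdg⟩
  have h0 := (IsRoot.def.2 hroot).dvd (Polynomial.map_dvd φ hgS)
  rw [IsRoot, Polynomial.map_prod, eval_prod, Finset.prod_eq_zero_iff] at h0
  obtain ⟨d, hd, hd0⟩ := h0
  rw [Polynomial.map_pow, eval_pow, map_cyclotomic] at hd0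
  have hd1 := eq_zero_of_pow_eq_zero hd0
  obtain ⟨-, hdpos, hdg⟩ := Finset.mem_filter.1 hd
  have hphi : d.totient ≤ 3 := by
    have := natDegree_le_of_dvd hdg hgm.ne_zero
    rwa [natDegree_cyclotomic, hgd] at this
  -- `d` is a multiple of the order 4 of 2 modulo 5 with small totient
  have h5d : ∀ n, d ≠ 5 * n := by
    rintro n rfl
    have h1 : Nat.totient 5 ∣ (5 * n).totient := Nat.totient_dvd_of_dvd (dvd_mul_right 5 n)
    have h2 := Nat.le_of_dvd (Nat.totient_pos.2 hdpos) h1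
    rw [show Nat.totient 5 = 4 by decide] at h2
    omega
  haveI : NeZero (d : ZMod 5) := ⟨fun h => by
    obtain ⟨n, hn⟩ := (ZMod.natCast_eq_zero_iff d 5).1 h
    exact h5d n hn⟩
  have h4 : orderOf (2 : ZMod 5) = 4 := by
    rw [orderOf_eq_iff (by norm_num)]
    exact ⟨by decide, by decide⟩
  have hd4 : d = 4 := ((isRoot_cyclotomic_iff (n := d)).1 hd1).eq_orderOf.trans h4
  exact hno (hd4 ▸ hdg)

/-- `W(E₇)` has no element with eigenvalue `2` both modulo 13 and modulo 5. -/
theorem eSeven_false {len : ℕ → ℕ} (hR : RootTable chevE7 len)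
    (w : List (Fin chevE7.rank))
    {x : Fin 7 → ZMod 13} (hx : x ∈ eigMod (wMat (l := 7) (cartanMat chevE7) w) 2) (hx0 : x ≠ 0)
    {y : Fin 7 → ZMod 5} (hy : y ∈ eigMod (wMat (l := 7) (cartanMat chevE7) w) 2) (hy0 : y ≠ 0) : False := by
  have hdet : (cartanMat chevE7).det ≠ 0 := by
    rw [show (cartanMat chevE7).det = cartE7.det from congrArg (Matrix.det (n := Fin 7)) eqE7, detE7]
    norm_num
  set M : Matrix (Fin 7) (Fin 7) ℤ := wMat (l := 7) (cartanMat chevE7) w with hMdef
  have hM : M ^ [2, 6, 8, 10, 12, 14, 18].prod = 1 := wMat_pow_eq_one hR weylE7 hdet w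
  have h13 : ¬ 13 ∣ [2, 6, 8, 10, 12, 14, 18].prod := by decide
  have hdvd := Polynomial.map_dvd (Int.castRingHom (ZMod 13)) (twelve_four_dvd hM h13 hx hx0 hy hy0)
  rw [Polynomial.map_mul, map_cyclotomic, map_cyclotomic] at hdvd
  have h4eval : (cyclotomic 4 (ZMod 13)).eval 5 = 0 := by
    have h := congrArg (eval (5 : ZMod 13))
      (cyclotomic_prime_pow_eq_geom_sum (R := ZMod 13) (n := 1) Nat.prime_two)
    norm_num at h
    rw [h]
    decide
  have hev : ∀ ζ ∈ ({2, 6, 5} : Finset (ZMod 13)),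
      Module.End.HasEigenvalue (Matrix.toLin' (M.map (Int.cast : ℤ → ZMod 13))ᵀ) ζ := by
    intro ζ hζ
    rw [Module.End.hasEigenvalue_iff_isRoot_charpoly, Matrix.charpoly_toLin', Matrix.charpoly_transpose,
      show M.map (Int.cast : ℤ → ZMod 13) = M.map (Int.castRingHom (ZMod 13)) from rfl, Matrix.charpoly_map]
    refine IsRoot.dvd ?_ hdvd
    simp only [Finset.mem_insert, Finset.mem_singleton] at hζ
    rw [IsRoot, eval_mul]
    rcases hζ with rfl | rfl | rfl
    · rw [eval_twelve]; exact mul_eq_zero_of_left (by decide) _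
    · rw [eval_twelve]; exact mul_eq_zero_of_left (by decide) _
    · exact mul_eq_zero_of_right _ h4eval
  let ζs : Fin 3 → ZMod 13 := ![2, 6, 5]
  have hmem : ∀ i, ζs i ∈ ({2, 6, 5} : Finset (ZMod 13)) := by decide
  choose v hv using fun i => (hev _ (hmem i)).exists_hasEigenvector
  have hli : LinearIndependent (ZMod 13) v :=
    Module.End.eigenvectors_linearIndependent' (Matrix.toLin' (M.map (Int.cast : ℤ → ZMod 13))ᵀ) ζs
      (by decide) v hv
  have hin : ∀ i, v i ∈ eigMod (M ^ 3) (8 : ZMod 13) := by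
    intro i
    rw [eigMod, Module.End.mem_eigenspace_iff,
      show (M ^ 3).map (Int.cast : ℤ → ZMod 13) = (M.map (Int.cast : ℤ → ZMod 13)) ^ 3 from
        map_pow (Int.castRingHom (ZMod 13)).mapMatrix M 3, Matrix.transpose_pow, Matrix.toLin'_pow,
      (hv i).pow_apply 3, show ζs i ^ 3 = 8 by revert i; decide]
  let v' : Fin 3 → eigMod (M ^ 3) (8 : ZMod 13) := fun i => ⟨v i, hin i⟩
  have h3 : 3 ≤ Module.finrank (ZMod 13) (eigMod (M ^ 3) (8 : ZMod 13)) := by
    simpa using (LinearIndependent.of_comp (eigMod (M ^ 3) (8 : ZMod 13)).subtype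
      (v := v') (by exact hli)).fintype_card_le_finrank
  have h48 : orderOf (8 : ZMod 13) = 4 := by
    rw [orderOf_eq_iff (by norm_num)]
    exact ⟨by decide, by decide⟩
  have hb := rankBoundE7 (List.replicate 3 w).flatten 13 h13 (8 : ZMod 13) (by decide)
    ⟨8, by simp, by rw [h48]; decide⟩
  erw [wMat_pow] at hb
  rw [h48] at hb
  exact absurd (h3.trans hb) (by decide)

/-- In a finite group of integer matrices normalised by `M` and fixing modulo `r` an eigenvector of `M` whose
eigenvalue has order `d`, an element of order dividing 5 is trivial if `φ d` is too big. -/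
theorem eq_one_of_fix {l N r d : ℕ} [Fact r.Prime] {M : Matrix (Fin l) (Fin l) ℤ} (hM : M ^ N = 1)
    (hrN : ¬ r ∣ N) (hd : 0 < d) {ζ : ZMod r} (hζ : orderOf ζ = d)
    {x : Fin l → ZMod r} (hx : x ∈ eigMod M ζ) (hx0 : x ≠ 0)
    (hl2 : l < 2 * d.totient)
    (E : Finset (Matrix (Fin l) (Fin l) ℤ))
    (hfix : ∀ g ∈ E, x ᵥ* g.map (Int.cast : ℤ → ZMod r) = x) (hconj : E.image (M * ·) = E.image (· * M))
    (hcard : ((E.card : ℕ) : ZMod r) ≠ 0) {u : Matrix (Fin l) (Fin l) ℤ} (hu : E.image (· * u) = E)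
    (hu5 : u ^ 5 = 1) (hl : l < d.totient + 4) : u = 1 := by
  classical
  obtain ⟨g, hg⟩ := (dvd_pow_self _ (fun h0 => hx0 ((Submodule.mem_bot _).1
    (Submodule.finrank_eq_zero.1 h0 ▸ hx)))).trans (cyclotomic_pow_dvd_charpoly hM hrN hd hζ)
  let φ := Int.castRingHom (ZMod r)
  have hgm : g.Monic := (cyclotomic.monic d ℤ).of_mul_monic_left (hg ▸ M.charpoly_monic)
  let e : Matrix (Fin l) (Fin l) ℤ := ∑ k ∈ E, k
  have heu : e * u = e := by
    have hinj : Function.Injective (· * u) := fun a b h => by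
      have := congrArg (· * u ^ 4) h
      simpa [Matrix.mul_assoc, ← pow_succ', hu5] using this
    conv_rhs => simp only [e]; rw [← hu, Finset.sum_image hinj.injOn]
    simp [e, Finset.sum_mul]
  have hN0 : N ≠ 0 := fun h => hrN (h ▸ dvd_zero r)
  have hMinjL : Function.Injective (M * ·) := fun a b h => by
    have := congrArg (M ^ (N - 1) * ·) h
    simpa [← Matrix.mul_assoc, ← pow_succ, Nat.sub_one_add_one hN0, hM] using this
  have hMinjR : Function.Injective (· * M) := fun a b h => by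
    have := congrArg (· * M ^ (N - 1)) h
    simpa [Matrix.mul_assoc, ← pow_succ', Nat.sub_one_add_one hN0, hM] using this
  have heM : Commute M e := by
    show M * ∑ k ∈ E, k = (∑ k ∈ E, k) * M
    rw [Finset.mul_sum, Finset.sum_mul, ← Finset.sum_image (f := fun k => k) hMinjL.injOn,
      ← Finset.sum_image (f := fun k => k) hMinjR.injOn, hconj]
  -- the vector
  have hlift : ∀ a : ZMod r, (((a.val : ℕ) : ℤ) : ZMod r) = a := fun a => by simp
  let x0 : Fin l → ℤ := fun j => ((x j).val : ℤ)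
  let f : Fin l → ℤ := x0 ᵥ* (e * aeval M g)
  have hxpoly : ∀ p : ℤ[X], x ᵥ* (aeval M p).map (Int.cast : ℤ → ZMod r) = (p.map φ).eval ζ • x := by
    intro p
    have hxM : x ᵥ* M.map (Int.cast : ℤ → ZMod r) = ζ • x := by
      funext k
      have h := (mem_eigMod M ζ x).1 hx k
      simp only [Matrix.vecMul, dotProduct, Matrix.map_apply, Pi.smul_apply, smul_eq_mul]
      rw [← h]
      exact Finset.sum_congr rfl fun j _ => mul_comm _ _
    induction p using Polynomial.induction_on with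
    | C a =>
      rw [aeval_C, Algebra.algebraMap_eq_smul_one, Polynomial.map_C, eval_C,
        show (a • (1 : Matrix (Fin l) (Fin l) ℤ)).map (Int.cast : ℤ → ZMod r) = (a : ZMod r) • 1 by
          ext i j; simp only [Matrix.map_apply, Matrix.smul_apply, Matrix.one_apply, smul_eq_mul]; split_ifs <;> simp]
      rw [Matrix.vecMul_smul, Matrix.vecMul_one]
      rfl
    | add a b ha hb => rw [map_add, Matrix.map_add _ Int.cast_add, Matrix.vecMul_add, ha, hb, Polynomial.map_add,
        eval_add, add_smul]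
    | monomial n a ih =>
      rw [pow_succ, ← mul_assoc, map_mul, aeval_X,
        show (aeval M (C a * X ^ n) * M).map (Int.cast : ℤ → ZMod r) =
          (aeval M (C a * X ^ n)).map (Int.cast : ℤ → ZMod r) * M.map (Int.cast : ℤ → ZMod r) from
            Matrix.map_mul (f := φ), ← Matrix.vecMul_vecMul, ih, Matrix.smul_vecMul, hxM, smul_smul]
      simp [pow_succ, mul_assoc]
  have hxe : x ᵥ* e.map (Int.cast : ℤ → ZMod r) = (E.card : ZMod r) • x := by
    rw [show e.map (Int.cast : ℤ → ZMod r) = ∑ k ∈ E, k.map (Int.cast : ℤ → ZMod r) from map_sum φ.mapMatrix _ E,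
      Matrix.vecMul_sum, Finset.sum_congr rfl hfix, Finset.sum_const, Nat.cast_smul_eq_nsmul]
  have hgnd : ¬ cyclotomic d ℤ ∣ g := fun h => by
    have h1 := congrArg natDegree hg
    have h2 := natDegree_le_of_dvd h hgm.ne_zero
    rw [M.charpoly_natDegree_eq_dim, Fintype.card_fin, (cyclotomic.monic d ℤ).natDegree_mul hgm] at h1
    rw [natDegree_cyclotomic] at h1 h2
    omega
  have hgζ : (g.map φ).eval ζ ≠ 0 := by
    intro h0
    have hprim : IsPrimitiveRoot ζ d := hζ ▸ IsPrimitiveRoot.orderOf ζ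
    have hgR : g ∣ ∏ j ∈ N.divisors.erase d, cyclotomic j ℤ ^ l := by
      have h1 : g ∣ cyclotomic d ℤ ^ l * ∏ j ∈ N.divisors.erase d, cyclotomic j ℤ ^ l := by
        refine (dvd_of_mul_left_eq _ hg.symm).trans ((charpoly_dvd_pow M hM).trans ?_)
        rw [← prod_cyclotomic_eq_X_pow_sub_one (Nat.pos_of_ne_zero hN0), ← Finset.prod_pow]
        by_cases hdN : d ∈ N.divisors
        · exact (Finset.mul_prod_erase _ (fun j => cyclotomic j ℤ ^ l) hdN).symm.dvd
        · rw [Finset.erase_eq_of_notMem hdN]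
          exact dvd_mul_left _ _
      exact (((cyclotomic.irreducible hd).isRelPrime_iff_not_dvd.2 hgnd).pow_left.symm).dvd_of_dvd_mul_left h1
    have h2 := (IsRoot.def.2 h0).dvd (Polynomial.map_dvd φ hgR)
    rw [Polynomial.map_prod, IsRoot, eval_prod, Finset.prod_eq_zero_iff] at h2
    obtain ⟨j, hj, hj0⟩ := h2
    rw [Polynomial.map_pow, eval_pow, map_cyclotomic] at hj0
    obtain ⟨hne, hjd⟩ := Finset.mem_erase.1 hj
    haveI : NeZero (j : ZMod r) := ⟨fun h => hrN ((ZMod.natCast_eq_zero_iff j r).1 h |>.trans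
      (Nat.dvd_of_mem_divisors hjd))⟩
    exact hne (hprim.unique (isRoot_cyclotomic_iff.1 (eq_zero_of_pow_eq_zero hj0))).symm
  have hfx : (fun j => (f j : ZMod r)) = ((E.card : ZMod r) * (g.map φ).eval ζ) • x := by
    have h1 : (fun j => (f j : ZMod r)) =
        x ᵥ* (e.map (Int.cast : ℤ → ZMod r) * (aeval M g).map (Int.cast : ℤ → ZMod r)) := by
      funext j
      rw [← show (e * aeval M g).map (Int.cast : ℤ → ZMod r) = e.map (Int.cast : ℤ → ZMod r) *
        (aeval M g).map (Int.cast : ℤ → ZMod r) from Matrix.map_mul (f := φ)]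
      simp [f, x0, Matrix.vecMul, dotProduct]
    rw [h1, ← Matrix.vecMul_vecMul, hxe, Matrix.smul_vecMul, hxpoly, smul_smul]
  have hf0 : f ≠ 0 := fun h0 => hx0 (by
    have h1 : (fun j => (f j : ZMod r)) = 0 := funext fun j => by simp [h0]
    rw [hfx] at h1
    exact (smul_eq_zero.1 h1).resolve_left (mul_ne_zero hcard hgζ))
  have hfΦ : f ᵥ* aeval M (cyclotomic d ℤ) = 0 := by
    show (x0 ᵥ* (e * aeval M g)) ᵥ* aeval M (cyclotomic d ℤ) = 0
    rw [Matrix.vecMul_vecMul, mul_assoc, ← map_mul, mul_comm g, ← hg, Matrix.aeval_self_charpoly, mul_zero,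
      Matrix.vecMul_zero]
  have hfu : ∀ i : ℕ, (f ᵥ* M ^ i) ᵥ* u = f ᵥ* M ^ i := by
    intro i
    have hc : Commute (aeval M g * M ^ i) e := by
      refine Commute.mul_left ?_ (heM.pow_left i)
      exact (Algebra.commute_of_mem_adjoin_singleton_of_commute (Polynomial.aeval_mem_adjoin_singleton ℤ M) heM.symm).symm
    show ((x0 ᵥ* (e * aeval M g)) ᵥ* M ^ i) ᵥ* u = (x0 ᵥ* (e * aeval M g)) ᵥ* M ^ i
    simp only [Matrix.vecMul_vecMul, mul_assoc]
    rw [← mul_assoc (aeval M g), ← mul_assoc e, ← hc.eq, mul_assoc (aeval M g * M ^ i), heu]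
  by_contra hu1
  -- over the rationals
  let ψ := Int.castRingHom ℚ
  let U : Module.End ℚ (Fin l → ℚ) := Matrix.toLin' (u.map ψ)ᵀ
  let v : Fin d.totient → Fin l → ℚ := fun i j => ((f ᵥ* M ^ (i : ℕ)) j : ℚ)
  have hcast : ∀ (a : Fin l → ℤ) (A : Matrix (Fin l) (Fin l) ℤ),
      (fun j => ((a ᵥ* A) j : ℚ)) = (fun j => (a j : ℚ)) ᵥ* A.map ψ := by
    intro a A
    funext j
    exact RingHom.map_vecMul ψ _ _ j
  have hv : LinearIndependent ℚ v := by
    rw [Fintype.linearIndependent_iff]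
    intro c hc i
    let p : ℚ[X] := ∑ j : Fin d.totient, C (c j) * X ^ (j : ℕ)
    have hdeg : p.degree < (d.totient : WithBot ℕ) := degree_sum_fin_lt c
    have hMp : ∀ n : ℕ, (M ^ n).map ψ = (M.map ψ) ^ n := fun n => map_pow ψ.mapMatrix M n
    have hpv : (fun j => (f j : ℚ)) ᵥ* aeval (M.map ψ) p = 0 := by
      rw [← hc]
      simp only [v, hcast, hMp, p, map_sum, map_mul, aeval_C, map_pow, aeval_X,
        Algebra.algebraMap_eq_smul_one, smul_mul_assoc, one_mul, Matrix.vecMul_sum, Matrix.vecMul_smul]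
    by_cases hp : p = 0
    · have hco := congrArg (fun q : ℚ[X] => q.coeff (i : ℕ)) hp
      simpa [p, finsetSum_coeff, coeff_C_mul, coeff_X_pow, Fin.val_inj] using hco
    · exfalso
      have hirr : Irreducible (cyclotomic d ℚ) := cyclotomic.irreducible_rat hd
      have hnd : ¬ cyclotomic d ℚ ∣ p := fun hdv => by
        have h3 := natDegree_le_of_dvd hdv hp
        rw [natDegree_cyclotomic] at h3
        have h4 : p.natDegree < d.totient := (natDegree_lt_iff_degree_lt hp).2 hdeg
        omega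
      obtain ⟨a, b, hab⟩ := hirr.coprime_iff_not_dvd.2 hnd
      have hΦ : (fun j => (f j : ℚ)) ᵥ* aeval (M.map ψ) (cyclotomic d ℚ) = 0 := by
        have h2 : aeval (M.map ψ) (cyclotomic d ℚ) = (aeval M (cyclotomic d ℤ)).map ψ := by
          rw [← map_cyclotomic_int, ← algebraMap_int_eq, aeval_map_algebraMap]
          exact (aeval_algHom_apply ψ.mapMatrix.toIntAlgHom M _)
        rw [h2, ← hcast, hfΦ]
        simp; rfl
      have h5 := congrArg (fun q : ℚ[X] => (fun j => (f j : ℚ)) ᵥ* aeval (M.map ψ) q) hab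
      simp only [map_add, Matrix.vecMul_add, mul_comm _ p, mul_comm _ (cyclotomic d ℚ), map_mul, map_one,
        Matrix.vecMul_one, ← Matrix.vecMul_vecMul, hpv, hΦ, Matrix.zero_vecMul, add_zero] at h5
      exact hf0 (funext fun j => by simpa using (congrFun h5 j).symm)
  have hvin : ∀ i, v i ∈ U.eigenspace 1 := by
    intro i
    rw [Module.End.mem_eigenspace_iff, one_smul, Matrix.toLin'_apply, Matrix.mulVec_transpose, ← hcast, hfu]
  have h1 : d.totient ≤ Module.finrank ℚ (U.eigenspace 1) := by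
    simpa using (LinearIndependent.of_comp (U.eigenspace 1).subtype
      (v := fun i => (⟨v i, hvin i⟩ : U.eigenspace 1)) (by exact hv)).fintype_card_le_finrank
  have h2 : (X - C (1 : ℚ)) ^ d.totient ∣ (u.map ψ).charpoly := by
    refine (le_rootMultiplicity_iff ((u.map ψ).charpoly_monic.ne_zero)).1 (h1.trans ?_)
    refine (LinearMap.finrank_eigenspace_le _ _).trans (le_of_eq ?_)
    rw [Matrix.charpoly_toLin', Matrix.charpoly_transpose]
  have h5 : cyclotomic 5 ℤ ∣ u.charpoly := by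
    by_contra hno
    refine hu1 (sub_eq_zero.1 ?_)
    have h6 : u.charpoly ∣ (X - 1) ^ l := by
      have h7 := charpoly_dvd_pow u hu5
      rw [← prod_cyclotomic_eq_X_pow_sub_one (by norm_num : 0 < 5), show Nat.divisors 5 = {1, 5} by decide,
        Finset.prod_pair (by norm_num), cyclotomic_one, mul_pow] at h7
      exact (((cyclotomic.irreducible (by norm_num : 0 < 5)).isRelPrime_iff_not_dvd.2 hno).symm.pow_right).dvd_of_dvd_mul_right h7
    have h8 := aeval_eq_zero_of_dvd_pow (by norm_num : (5 : ℕ) ≠ 0) hu5 u.aeval_self_charpoly h6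
    simpa using h8
  have h5' : cyclotomic 5 ℚ ∣ (u.map ψ).charpoly := by
    rw [Matrix.charpoly_map, ← map_cyclotomic 5 ψ]
    exact Polynomial.map_dvd ψ h5
  have hco : IsCoprime (cyclotomic 5 ℚ) ((X - C (1 : ℚ)) ^ d.totient) := by
    refine ((cyclotomic.irreducible_rat (by norm_num : 0 < 5)).coprime_iff_not_dvd.2 fun hdv => ?_).pow_right
    have := natDegree_le_of_dvd hdv (X_sub_C_ne_zero 1)
    rw [natDegree_cyclotomic, natDegree_X_sub_C] at this
    exact absurd this (by decide)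
  have h9 := natDegree_le_of_dvd (hco.mul_dvd h5' h2) (u.map ψ).charpoly_monic.ne_zero
  rw [(cyclotomic.monic 5 ℚ).natDegree_mul ((monic_X_sub_C 1).pow _), natDegree_pow, natDegree_X_sub_C,
    natDegree_cyclotomic, Matrix.charpoly_natDegree_eq_dim, Fintype.card_fin, show Nat.totient 5 = 4 by decide] at h9
  omega

end Cfsg.Agent.CycTori
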