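import Cfsg.Agent.CycTori.Main
import Cfsg.Agent.CycTori.ESevenMat
import Cfsg.Agent.LieTori.SylowInst

/-!
`E₇(2)` has no element of order 65 (owner: helper87).

Over the field with `2 ^ 12` elements an element of order 13 and a commuting element of order 5 may be
conjugated into the split torus simultaneously, and the Frobenius map then gives an element of `W(E₇)` with
eigenvalue 2 modulo 13 and modulo 5, which does not exist.
-/

set_option autoImplicit false
set_option linter.style.haveILetI false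

namespace Cfsg.Agent.CycTori

open Cfsg.Lie Cfsg.Agent.ChevGrp Cfsg.Agent.LieTori
open Matrix hiding col
open scoped MatrixGroups

section General

variable {D : ChevalleyDatum} {len : ℕ → ℕ}

theorem eigMod_of_valMod (hR : RootTable D len) {r : ℕ} [Fact r.Prime]
    (hdet : ((cartanMat D).det : ZMod r) ≠ 0) {w : List (Fin D.rank)} {x : Fin D.rank → ZMod r} {a : ZMod r}
    (h : ∀ s < D.nroots, valMod D x (act D w s) = a * valMod D x s) :
    x ∈ eigMod (wMat (cartanMat D) w) a := by
  let A' : Matrix (Fin D.rank) (Fin D.rank) (ZMod r) := (cartanMat D).map (Int.castRingHom (ZMod r))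
  let P' : Matrix (Fin D.rank) (Fin D.rank) (ZMod r) :=
    (wMat (cartanMat D) w).map (Int.castRingHom (ZMod r))
  have h0 : (x ᵥ* P' - a • x) ᵥ* A' = 0 := by
    funext k
    have h1 := h _ (hR.simple_lt k k.2)
    have hcol : ∀ j : Fin D.rank, D.cartan j (act D w (D.simple k)) = (wMat (cartanMat D) w * cartanMat D) j k :=
      fun j => by
      have := congrFun (col_act hR w (hR.simple_lt k k.2)) j
      simpa [col, cartanMat, Matrix.mul_apply, Matrix.mulVec, dotProduct] using this
    simp only [valMod, hcol] at h1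
    rw [Matrix.sub_vecMul, Matrix.smul_vecMul, Matrix.vecMul_vecMul, Pi.sub_apply, Pi.smul_apply, Pi.zero_apply,
      sub_eq_zero, smul_eq_mul, show P' * A' = (wMat (cartanMat D) w * cartanMat D).map (Int.castRingHom (ZMod r))
        from (Matrix.map_mul (f := Int.castRingHom (ZMod r))).symm]
    simpa [Matrix.vecMul, dotProduct, A', cartanMat] using h1
  have hdetA : A'.det ≠ 0 := by
    rwa [show A'.det = (((cartanMat D).det : ℤ) : ZMod r) from (RingHom.map_det (Int.castRingHom (ZMod r)) _).symm]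
  have h2 := sub_eq_zero.1 (Matrix.eq_zero_of_vecMul_eq_zero hdetA h0)
  rw [mem_eigMod]
  intro k
  have h3 := congrFun h2 k
  simp only [Pi.smul_apply, smul_eq_mul, Matrix.vecMul, dotProduct, P', Matrix.map_apply, eq_intCast] at h3
  rw [← h3]
  exact Finset.sum_congr rfl fun j _ => mul_comm _ _

theorem col_injective (hR : RootTable D len) (hdet : (cartanMat D).det ≠ 0) {s t : ℕ} (hs : s < D.nroots)
    (ht : t < D.nroots) (h : col D s = col D t) : s = t := by
  let v : ℕ → Fin D.rank → ℤ := fun u i => vec D len u i * ((6 / len (D.simple i) : ℕ) : ℤ)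
  have hv : ∀ u < D.nroots, cartanMat D *ᵥ v u = (6 : ℤ) • col D u := fun u hu => by
    funext j
    rw [Pi.smul_apply, smul_eq_mul, col, hR.cartan_vec j j.2 u hu, Matrix.mulVec, dotProduct]
    exact Finset.sum_congr rfl fun i _ => by simp only [v, cartanMat, Matrix.of_apply]; ring
  have h2 : cartanMat D *ᵥ (v s - v t) = 0 := by rw [Matrix.mulVec_sub, hv s hs, hv t ht, h, sub_self]
  have h3 := sub_eq_zero.1 (Matrix.eq_zero_of_mulVec_eq_zero hdet h2)
  refine hR.vec_inj s hs t ht (funext fun i => ?_)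
  have hl := hR.simple_lt i i.2
  exact mul_right_cancel₀ (by
    exact_mod_cast (Nat.div_pos (Nat.le_of_dvd (by norm_num) (hR.len_dvd _ hl)) (hR.len_pos hl)).ne')
    (congrFun h3 i)

theorem wMat_congr (hR : RootTable D len) (hdet : (cartanMat D).det ≠ 0) {u w : List (Fin D.rank)}
    (h : ∀ s < D.nroots, act D u s = act D w s) : wMat (cartanMat D) u = wMat (cartanMat D) w := by
  have h1 : (wMat (cartanMat D) u - wMat (cartanMat D) w) * cartanMat D = 0 := by
    ext j k
    have hk := hR.simple_lt k k.2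
    have e1 := congrFun (col_act hR u hk) j
    have e2 := congrFun (col_act hR w hk) j
    rw [← h _ hk] at e2
    rw [sub_mul, Matrix.sub_apply, Matrix.zero_apply, sub_eq_zero]
    exact e1.symm.trans e2
  have h2 := congrArg (· * (cartanMat D).adjugate) h1
  simp only [mul_assoc, zero_mul, Matrix.mul_adjugate, mul_smul_comm, mul_one] at h2
  exact sub_eq_zero.1 ((smul_eq_zero.1 h2).resolve_left hdet)

theorem wMat_reverse (hR : RootTable D len) (hdet : (cartanMat D).det ≠ 0) (w : List (Fin D.rank)) :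
    wMat (cartanMat D) w * wMat (cartanMat D) w.reverse = 1 := by
  rw [← wMat_append, wMat_congr hR hdet (w := []) fun s hs => by rw [act_append, hR.act_act_reverse w hs, act_nil]]
  simp [wMat]

variable {F : Type*} [Field F] {G : Type*} [Group G] (S : Sys D F G)

theorem root_hom {r : ℕ} (g : Multiplicative (ZMod r) →* Fˣ) (x : Fin D.rank → ZMod r) (s : ℕ) :
    ∏ j : Fin D.rank, g (Multiplicative.ofAdd (x j)) ^ D.cartan j s =
      g (Multiplicative.ofAdd (valMod D x s)) := by
  rw [prod_zpow_hom g (fun j : Fin D.rank => D.cartan j s) fun j => Multiplicative.ofAdd (x j)]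
  exact congrArg (fun a => g (Multiplicative.ofAdd a)) (Finset.sum_congr rfl fun j _ => mul_comm _ _)

theorem valMod_of_conj (hS : Rules D F) (hR : RootTable D len) (hM : S.HMul) {r : ℕ}
    (g : Multiplicative (ZMod r) →* Fˣ) (hg : Function.Injective g) (x : Fin D.rank → ZMod r) {q : ℕ}
    {w : List (Fin D.rank)}
    (e : S.nW w * S.tau hS hR hM (fun j => g (Multiplicative.ofAdd (x j))) * (S.nW w)⁻¹ =
      S.tau hS hR hM (fun j => g (Multiplicative.ofAdd (x j))) ^ q) {s : ℕ} (hs : s < D.nroots) :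
    valMod D x s = (q : ZMod r) * valMod D x (act D w s) := by
  rw [← map_pow] at e
  have h1 := root_eq_of_conj S hS hR hM e hs
  rw [root_hom g x s] at h1
  simp only [Pi.pow_apply] at h1
  rw [Finset.prod_congr rfl (fun j _ => show (g (Multiplicative.ofAdd (x j)) ^ q) ^ D.cartan j (act D w s) =
      (g (Multiplicative.ofAdd (x j)) ^ D.cartan j (act D w s)) ^ q by
        rw [← zpow_natCast, ← zpow_natCast, zpow_comm]), Finset.prod_pow, root_hom g x, ← map_pow,
    ← ofAdd_nsmul, nsmul_eq_mul] at h1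
  exact Multiplicative.ofAdd.injective (hg h1)

theorem nW_flatten (h : G) {w : List (Fin D.rank)} (hS : Rules D F) (hR : RootTable D len)
    (hh : h ∈ S.Hbar) (n : ℕ) : ∃ h' ∈ S.Hbar, (S.nW w * h) ^ n = S.nW (List.replicate n w).flatten * h' := by
  induction n with
  | zero => exact ⟨1, one_mem _, by simp [Sys.nW_nil]⟩
  | succ n ih =>
    obtain ⟨h', hh', e⟩ := ih
    refine ⟨((S.nW (List.replicate n w).flatten)⁻¹ * h * S.nW (List.replicate n w).flatten) * h', ?_, ?_⟩
    · refine mul_mem ?_ hh'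
      have h3 := (Subgroup.mem_normalizer_iff.1 (S.Nbar_le_normalizer hS hR
        (inv_mem (S.nW_mem_Nbar (List.replicate n w).flatten))) h).1 hh
      simpa using h3
    · rw [List.replicate_succ, List.flatten_cons, S.nW_append, pow_succ', e]
      group

/-- An element commuting with all elements of a family of torus elements, no root trivial on all of them and
no nontrivial Weyl element fixing all of them, lies in the torus. -/
theorem mem_Hbar_of_commute_family (hS : Rules D F) (hR : RootTable D len) (hM : S.HMul)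
    {ι : Type*} (c : ι → Fin D.rank → Fˣ)
    (hreg : ∀ s < D.nroots, ∃ i, (∏ j : Fin D.rank, c i j ^ D.cartan j s) ≠ 1)
    (hstab : ∀ u : List (Fin D.rank), (∀ i, ∀ s < D.nroots, ∏ j : Fin D.rank, c i j ^ D.cartan j s =
      ∏ j : Fin D.rank, c i j ^ D.cartan j (act D u s)) → ∀ s < D.nroots, act D u s = s)
    {z : G} (hz : z ∈ S.Gbar) (hcomm : ∀ i, z * S.tau hS hR hM (c i) = S.tau hS hR hM (c i) * z) :
    z ∈ S.Hbar := by
  obtain ⟨b, hb, w, -, v, hv, rfl⟩ := S.mem_NF hS hR hz
  have hy : ∀ i, S.tau hS hR hM (c i) ∈ S.Hbar := fun i => by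
    rw [← S.tau_range hS hR hM]; exact ⟨c i, rfl⟩
  have hid : ∀ s < D.nroots, act D w s = s := hstab w fun i s hs =>
    root_eq_of_conj S hS hR hM (conj_nW_eq S hS hR hM hb hv (hy i) (hy i) (hcomm i)) hs
  have hv1 : v = 1 := by
    have he : invSet D w = ∅ := Set.eq_empty_of_forall_notMem fun r hr => by
      have h2 := hr.2
      rw [hid r hr.1.1] at h2
      exact hR.not_pos_and_neg hr.1 h2
    rw [he] at hv
    simpa [Sys.US] using hv
  subst hv1
  have hn : S.nW w ∈ S.Hbar := S.nW_mem_Hbar_of_act hS hR fun r hr => by rw [hid r hr.1]; exact hr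
  simp only [mul_one] at hcomm ⊢
  obtain ⟨u, hu, h, hh, e⟩ := (S.mem_Bbar hS hR).1 (mul_mem hb (S.Hbar_le_Bbar hn))
  rw [e] at hcomm ⊢
  obtain ⟨L, hL⟩ := hR.posSet_closed.exists_enum
  obtain ⟨t, rfl⟩ := S.exists_coef hR hR.posSet_closed hL hu
  have hlt : ∀ r ∈ L, r < D.nroots := fun r hr => ((hL.2 r).1 hr).1
  have hP : ∀ (i : ι) (L' : List ℕ), (∀ r ∈ L', r < D.nroots) →
      S.tau hS hR hM (c i) * S.P L' t * (S.tau hS hR hM (c i))⁻¹ =
        S.P L' fun r => ((∏ j : Fin D.rank, c i j ^ D.cartan j r : Fˣ) : F) * t r := by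
    intro i L' hL'
    induction L' with
    | nil => simp [Sys.P_nil]
    | cons r L' ih =>
      rw [S.P_cons, S.P_cons, ← ih (fun a ha => hL' a (List.mem_cons_of_mem _ ha)),
        ← tau_conj_x S hS hR hM (c i) r (hL' r List.mem_cons_self)]
      group
  have hu1 : S.P L t = 1 := by
    refine S.P_zero hlt fun r hr => ?_
    by_contra h3
    obtain ⟨i, hi⟩ := hreg r (hlt r hr)
    have h1 : S.tau hS hR hM (c i) * S.P L t * (S.tau hS hR hM (c i))⁻¹ = S.P L t := by
      refine mul_inv_eq_iff_eq_mul.2 (mul_right_cancel (b := h) ?_)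
      rw [mul_assoc, ← hcomm i, mul_assoc, mul_assoc, S.Hbar_comm hS hR hM _ (hy i) _ hh]
    rw [hP i L hlt] at h1
    exact hi (Units.ext (mul_eq_right₀ h3 |>.1
      (S.coef_unique hR hR.posSet_closed hL (congrArg S.θ h1) r ((hL.2 r).1 hr))))
  rw [hu1, one_mul]
  exact hh

end General

theorem exists_word_eigen {D : ChevalleyDatum}
    (hmem : D ∈ [chevG2, chevB2, chevD4, chevF4, chevE6, chevE7, chevE8])
    (hrank : D.rank = 7) (hdetZ : (cartanMat D).det = ((2 : ℕ) : ℤ)) {L : List ℕ} (hLlen : L.length = D.rank)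
    (hL13 : ∀ e ∈ L, ¬ 13 ∣ e) (hW : WeylOrder D L.prod)
    (hsmall : ∀ j : Fin D.rank, ∀ s < D.nroots, |D.cartan j s| ≤ 2)
    (hO : ∀ (K : Type) [Field K] [Fintype K], OrderFormula D L 2 K)
    {F : Type} [Field F] [Fintype F] (hF : Fintype.card F = 2) (x : ↥(D.group F)) (hx : orderOf x = 65) :
    ∃ (len : ℕ → ℕ), RootTable D len ∧ ∃ (w : List (Fin D.rank)) (a : Fin D.rank → ZMod 13)
      (b : Fin D.rank → ZMod 5), a ∈ eigMod (wMat (cartanMat D) w) 2 ∧ a ≠ 0 ∧
        b ∈ eigMod (wMat (cartanMat D) w) 2 ∧ b ≠ 0 := by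
  classical
  have h13W : ¬ 13 ∣ L.prod := by
    rw [(show Nat.Prime 13 by norm_num).prime.dvd_prod_iff]
    rintro ⟨e, he, hd⟩
    exact hL13 e he hd
  haveI : Fact (Nat.Prime 2) := ⟨Nat.prime_two⟩
  haveI : CharP F 2 := charP_of_card_eq_prime hF
  have hcardF : Nat.card F = 2 := by rw [Nat.card_eq_fintype_card, hF]
  let K := FiniteField.Extension F 2 12
  haveI : Fintype K := Fintype.ofFinite K
  have hcardK : Nat.card K = 4096 := by rw [FiniteField.natCard_extension, hcardF]; norm_num
  have hS : Rules D K := Chev.rules_of_mem K hmem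
  obtain ⟨len, hR⟩ := hS.root
  let S := glSys hS
  have hM : S.HMul := glSys_HMul hS hR
  have hGK : D.group K = S.Gbar := group_eq hS
  have hdet0 : (cartanMat D).det ≠ 0 := by rw [hdetZ]; norm_num
  have htauH : ∀ c, S.tau hS hR hM c ∈ S.Hbar := fun c => by
    rw [← S.tau_range hS hR hM]; exact ⟨c, rfl⟩
  have hHG : S.Hbar ≤ S.Gbar := by
    rw [S.Gbar_eq hR hS]; exact le_sup_of_le_left S.Hbar_le_Bbar
  have htau : ∀ c, S.tau hS hR hM c ∈ D.group K := fun c => hGK ▸ hHG (htauH c)
  obtain ⟨g13, hg13⟩ := SylowLarge.exists_zmod_hom_units (K := K) (M := 13)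
    (by rw [hcardK]; norm_num)
  obtain ⟨g5, hg5⟩ := SylowLarge.exists_zmod_hom_units (K := K) (M := 5)
    (by rw [hcardK]; norm_num)
  -- the Sylow 13-subgroup of the torus
  let φ13 : (Fin D.rank → Multiplicative (ZMod (13))) →* ↥(D.group K) :=
    ((S.tau hS hR hM).comp (g13.compLeft (Fin D.rank))).codRestrict _ fun y => htau (g13.compLeft (Fin D.rank) y)
  have hφ13 : Function.Injective φ13 := fun a b e =>
    tau_torus_injective (r := 13) (v := 1) (f := g13) hS hR hdetZ (by norm_num) hg13 (congrArg Subtype.val e)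
  let φ5 : (Fin D.rank → Multiplicative (ZMod (5))) →* ↥(D.group K) :=
    ((S.tau hS hR hM).comp (g5.compLeft (Fin D.rank))).codRestrict _ fun y => htau (g5.compLeft (Fin D.rank) y)
  have hcard13 : Nat.card φ13.range = 13 ^ (Nat.card ↥(D.group K)).factorization 13 := by
    have h1 : (Nat.card K : ZMod 13) = 1 := by rw [hcardK]; decide
    have h2 : padicValNat 13 4095 = 1 := by
      rw [show (4095 : ℕ) = 13 * 315 by norm_num, padicValNat.mul (by norm_num) (by norm_num),
        padicValNat_self, padicValNat.eq_zero_of_not_dvd (by norm_num)]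
    rw [← Nat.card_congr (MonoidHom.ofInjective hφ13).toEquiv,
      show Nat.card (Fin D.rank → Multiplicative (ZMod 13)) = 13 ^ D.rank by
        rw [Nat.card_fun, Nat.card_fin, Nat.card_congr Multiplicative.toAdd, Nat.card_zmod],
      Nat.factorization_def _ (by norm_num), padicValNat_group (hO K) (by norm_num)
      (by rw [hcardK]; norm_num) (by norm_num) hL13, h1, orderOf_one, Polynomial.cyclotomic_one, ← hLlen]
    simp [-Nat.card_eq_fintype_card, hcardK, h2]
  -- the two commuting elements in the group over `K`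
  let e : GL D.Idx F →* GL D.Idx K := Matrix.GeneralLinearGroup.map (algebraMap F K)
  have he : Function.Injective e := glMap_injective D (algebraMap F K)
  let ψ : ↥(D.group F) →* ↥(D.group K) :=
    (e.comp (D.group F).subtype).codRestrict _ fun z => map_mem_group (algebraMap F K) z.2
  have hψ : Function.Injective ψ := fun a b hab => Subtype.ext (he (congrArg Subtype.val hab))
  have ho13 : orderOf (x ^ 5) = 13 := by rw [orderOf_pow, hx]; norm_num
  have ho5 : orderOf (x ^ 13) = 5 := by rw [orderOf_pow, hx]; norm_num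
  have hP13 : IsPGroup 13 (Subgroup.zpowers (ψ (x ^ 5))) :=
    IsPGroup.of_card (n := 1) (by rw [Nat.card_zpowers, orderOf_injective ψ hψ, ho13, pow_one])
  obtain ⟨P, hP⟩ := hP13.exists_le_sylow
  obtain ⟨γ, hγ⟩ := MulAction.exists_smul_eq ↥(D.group K) P (Sylow.ofCard φ13.range hcard13)
  set y : ↥(D.group K) := MulAut.conj γ (ψ (x ^ 5)) with hy
  obtain ⟨z13, hz13⟩ : y ∈ φ13.range := by
    have h1 : y ∈ ((γ • P : Sylow 13 ↥(D.group K)) : Subgroup ↥(D.group K)) := by
      rw [hy, Sylow.smul_def, Sylow.pointwise_smul_def, ← MulAut.smul_def]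
      exact Subgroup.smul_mem_pointwise_smul _ _ _ (hP (Subgroup.mem_zpowers _))
    rw [hγ] at h1
    exact h1
  set x13 : Fin D.rank → ZMod 13 := fun j => Multiplicative.toAdd (z13 j) with hx13def
  set c13 : Fin D.rank → Kˣ := fun j => g13 (Multiplicative.ofAdd (x13 j)) with hc13
  have hyv : (y : GL D.Idx K) = S.tau hS hR hM c13 := (congrArg Subtype.val hz13).symm
  have hx130 : x13 ≠ 0 := fun h0 => by
    have h1 : z13 = 1 := funext fun j => toAdd_eq_zero.1 (congrFun h0 j)
    rw [h1, map_one] at hz13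
    have h2 : orderOf y = 13 := by rw [hy, MulEquiv.orderOf_eq, orderOf_injective ψ hψ, ho13]
    rw [← hz13, orderOf_one] at h2
    norm_num at h2
  let σ : K →+* K := (FiniteField.Extension.frob F 2 12).toAlgHom.toRingHom
  have hσ : ∀ a : K, σ a = a ^ 2 := fun a => by
    show FiniteField.Extension.frob F 2 12 a = _
    rw [FiniteField.Extension.frob_apply, hcardF]
  let fr : GL D.Idx K →* GL D.Idx K := Matrix.GeneralLinearGroup.map σ
  have hfix : ∀ a : GL D.Idx F, fr (e a) = e a := fun a => by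
    ext i j
    exact (FiniteField.Extension.frob F 2 12).commutes _
  -- the Frobenius map acts on simultaneous torus representatives as one Weyl element
  have hfrob : ∀ δ : ↥(D.group K), ∃ b ∈ S.Bbar, ∃ w : List (Fin D.rank), ∃ v ∈ S.US (invSet D w),
      ∀ (z : ↥(D.group F)) (c : Fin D.rank → Kˣ),
        (MulAut.conj δ (ψ z) : GL D.Idx K) = S.tau hS hR hM c →
        S.nW w * S.tau hS hR hM c * (S.nW w)⁻¹ = S.tau hS hR hM c ^ 2 := by
    intro δ
    set Qe : GL D.Idx K := fr (δ : GL D.Idx K) * (δ : GL D.Idx K)⁻¹ with hQe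
    have hQG : Qe ∈ S.Gbar := by
      rw [← hGK]
      exact mul_mem (map_mem_group σ δ.2) (inv_mem δ.2)
    obtain ⟨b, hb, w, -, v, hv, hQeq⟩ := S.mem_NF hS hR hQG
    refine ⟨b, hb, w, v, hv, fun z c hc => ?_⟩
    have h1 : Qe * S.tau hS hR hM c * Qe⁻¹ = S.tau hS hR hM c ^ 2 := by
      rw [← LieTori.map_tau hS hR σ hσ c, ← hc]
      show Qe * ((δ : GL D.Idx K) * e (z : GL D.Idx F) * (δ : GL D.Idx K)⁻¹) * Qe⁻¹ =
        fr ((δ : GL D.Idx K) * e (z : GL D.Idx F) * (δ : GL D.Idx K)⁻¹)
      rw [map_mul, map_mul, map_inv, hfix, hQe]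
      group
    refine conj_nW_eq S hS hR hM hb hv (htauH c) (pow_mem (htauH c) 2) ?_
    rw [← hQeq]
    exact mul_inv_eq_iff_eq_mul.1 h1
  obtain ⟨b₁, -, w₁, v₁, -, hw₁⟩ := hfrob γ
  have hval₁ : ∀ s < D.nroots, valMod D x13 (act D w₁.reverse s) = 2 * valMod D x13 s := fun s hs => by
    have h1 := valMod_of_conj S hS hR hM g13 hg13 x13 (q := 2) (hw₁ (x ^ 5) c13 hyv) (hR.act_lt w₁.reverse hs)
    rw [hR.act_act_reverse w₁ hs] at h1
    rw [h1]
    rfl
  set M₁ := wMat (cartanMat D) w₁.reverse with hM₁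
  have h13det : ((cartanMat D).det : ZMod 13) ≠ 0 := by rw [hdetZ]; decide
  have h5det : ((cartanMat D).det : ZMod 5) ≠ 0 := by rw [hdetZ]; decide
  have heig₁ : x13 ∈ eigMod M₁ 2 := eigMod_of_valMod hR h13det hval₁
  -- no element of order 5 in the stabiliser of `x13`
  have hmod5 : ∀ s < D.nroots, ∀ t < D.nroots,
      (∀ j : Fin D.rank, ((D.cartan j s : ℤ) : ZMod 5) = ((D.cartan j t : ℤ) : ZMod 5)) → s = t := by
    intro s hs t ht h
    refine col_injective hR hdet0 hs ht (funext fun j => ?_)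
    have h1 := (ZMod.intCast_eq_intCast_iff_dvd_sub _ _ 5).1 (h j)
    have h2 := abs_le.1 (hsmall j s hs)
    have h3 := abs_le.1 (hsmall j t ht)
    show D.cartan j s = D.cartan j t
    obtain ⟨k, hk⟩ := h1
    push_cast at hk
    omega
  have hstab5 : ∀ u : List (Fin D.rank), (∀ s < D.nroots, valMod D x13 (act D u s) = valMod D x13 s) →
      (∀ s < D.nroots, act D (List.replicate 5 u).flatten s = s) → ∀ s < D.nroots, act D u s = s := by
    intro u hu hu5
    let A := cartanMat D
    let F13 : List (Fin D.rank) → Prop := fun k => ∀ s < D.nroots, valMod D x13 (act D k s) = valMod D x13 s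
    let K0 : Subgroup (Matrix (Fin D.rank) (Fin D.rank) ℤ)ˣ :=
      { carrier := {g | ∃ k, F13 k ∧ wMat A k = g.1}
        mul_mem' := by
          rintro a b ⟨k, hk, ek⟩ ⟨k', hk', ek'⟩
          exact ⟨k ++ k', fun s hs => by rw [act_append, hk _ (hR.act_lt k' hs), hk' s hs],
            by rw [wMat_append, ek, ek', Units.val_mul]⟩
        one_mem' := ⟨[], fun s _ => by rw [act_nil], by simp [wMat]⟩
        inv_mem' := by
          rintro a ⟨k, hk, ek⟩
          refine ⟨k.reverse, fun s hs => ?_, ?_⟩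
          · rw [← hk _ (hR.act_lt k.reverse hs), hR.act_act_reverse k hs]
          · refine (Units.inv_eq_of_mul_eq_one_right ?_).symm
            rw [← ek, wMat_reverse hR hdet0] }
    haveI : Finite K0 := by
      let W : Set (Fin D.nroots → Fin D.nroots) :=
        Set.range fun k : List (Fin D.rank) => fun s => ⟨act D k s, hR.act_lt k s.2⟩
      choose k hk ek using fun g : K0 => g.2
      refine Finite.of_injective (fun g : K0 => fun s : Fin D.nroots =>
        (⟨act D (k g) s, hR.act_lt (k g) s.2⟩ : Fin D.nroots)) fun a b hab => ?_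
      refine Subtype.ext (Units.ext ?_)
      rw [← ek a, ← ek b]
      exact wMat_congr hR hdet0 fun s hs => congrArg Fin.val (congrFun hab ⟨s, hs⟩)
    haveI : Fintype K0 := Fintype.ofFinite K0
    let E : Finset (Matrix (Fin D.rank) (Fin D.rank) ℤ) := Finset.univ.image fun g : K0 => (g.1 : _ˣ).1
    have hmemE : ∀ g, g ∈ E ↔ ∃ k, F13 k ∧ wMat A k = g := fun g => by
      simp only [E, Finset.mem_image, Finset.mem_univ, true_and]
      constructor
      · rintro ⟨⟨a, k, hk, ek⟩, rfl⟩
        exact ⟨k, hk, ek⟩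
      · rintro ⟨k, hk, rfl⟩
        exact ⟨⟨⟨wMat A k, wMat A k.reverse, wMat_reverse hR hdet0 k, by
          simpa using wMat_reverse hR hdet0 k.reverse⟩, k, hk, rfl⟩, rfl⟩
    have hpowM : wMat A w₁.reverse ^ L.prod = 1 := wMat_pow_eq_one hR hW hdet0 _
    have hu5' : wMat A u ^ 5 = 1 := by
      rw [← wMat_pow, wMat_congr hR hdet0 (w := []) fun s hs => by rw [hu5 s hs, act_nil]]
      simp [wMat]
    have hcardE : ((E.card : ℕ) : ZMod 13) ≠ 0 := by
      rw [Ne, ZMod.natCast_eq_zero_iff, Finset.card_image_of_injective _ (fun a b h => Subtype.ext (Units.ext h)),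
        Finset.card_univ, ← Nat.card_eq_fintype_card]
      intro hdvd
      obtain ⟨a, ha⟩ := exists_prime_orderOf_dvd_card' 13 hdvd
      obtain ⟨k, -, ek⟩ := a.2
      have h1 : orderOf a ∣ L.prod := by
        apply orderOf_dvd_of_pow_eq_one
        refine Subtype.ext (Units.ext ?_)
        simp only [SubgroupClass.coe_pow, Units.val_pow_eq_pow_val, OneMemClass.coe_one, Units.val_one, ← ek]
        exact wMat_pow_eq_one hR hW hdet0 k
      rw [ha] at h1
      exact absurd h1 h13W
    have hfixE : ∀ g ∈ E, x13 ᵥ* g.map (Int.cast : ℤ → ZMod 13) = x13 := by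
      intro g hg
      obtain ⟨k, hk, rfl⟩ := (hmemE g).1 hg
      have h1 := eigMod_of_valMod hR h13det (w := k) (a := 1) fun s hs => by rw [hk s hs, one_mul]
      funext i
      have h2 := (mem_eigMod _ _ _).1 h1 i
      rw [one_mul] at h2
      rw [← h2]
      simp only [Matrix.vecMul, dotProduct, Matrix.map_apply]
      exact Finset.sum_congr rfl fun j _ => mul_comm _ _
    set v := w₁.reverse with hv
    have hval' : ∀ s < D.nroots, valMod D x13 (act D v.reverse s) * 2 = valMod D x13 s := fun s hs => by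
      rw [mul_comm, ← hval₁ _ (hR.act_lt v.reverse hs), hR.act_act_reverse v hs]
    have hconjE : E.image (wMat A v * ·) = E.image (· * wMat A v) := by
      ext g
      simp only [Finset.mem_image]
      constructor
      · rintro ⟨a, ha, rfl⟩
        obtain ⟨k, hk, rfl⟩ := (hmemE a).1 ha
        refine ⟨wMat A (v ++ (k ++ v.reverse)), (hmemE _).2 ⟨_, fun s hs => ?_, rfl⟩, ?_⟩
        · rw [act_append, act_append, hval₁ _ (hR.act_lt k (hR.act_lt v.reverse hs)), hk _ (hR.act_lt v.reverse hs),
            mul_comm, hval' s hs]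
        · rw [wMat_append, wMat_append, mul_assoc, mul_assoc,
            show wMat A v.reverse * wMat A v = 1 by simpa using wMat_reverse hR hdet0 v.reverse, mul_one]
      · rintro ⟨a, ha, rfl⟩
        obtain ⟨k, hk, rfl⟩ := (hmemE a).1 ha
        refine ⟨wMat A (v.reverse ++ (k ++ v)), (hmemE _).2 ⟨_, fun s hs => ?_, rfl⟩, ?_⟩
        · rw [act_append, act_append]
          refine mul_right_cancel₀ (b := (2 : ZMod 13)) (by decide) ?_
          rw [hval' _ (hR.act_lt k (hR.act_lt v hs)), hk _ (hR.act_lt v hs), hval₁ s hs, mul_comm]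
        · rw [wMat_append, wMat_append, ← mul_assoc, wMat_reverse hR hdet0, one_mul]
    have huE : E.image (· * wMat A u) = E := by
      refine Finset.eq_of_subset_of_card_le (fun g hg => ?_) (le_of_eq ?_)
      · obtain ⟨a, ha, rfl⟩ := Finset.mem_image.1 hg
        obtain ⟨k, hk, rfl⟩ := (hmemE a).1 ha
        exact (hmemE _).2 ⟨k ++ u, fun s hs => by rw [act_append, hk _ (hR.act_lt u hs), hu s hs],
          wMat_append _ _ _⟩
      · refine (Finset.card_image_of_injective _ fun a b h => ?_).symm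
        have h' := congrArg (· * wMat A u.reverse) h
        simp only [mul_assoc, A, wMat_reverse hR hdet0, mul_one] at h'
        exact h'
    have h12 : orderOf (2 : ZMod 13) = 12 := by
      rw [orderOf_eq_iff (by norm_num)]
      exact ⟨by decide, by decide⟩
    have h1 := eq_one_of_fix hpowM h13W (by norm_num) h12 heig₁ hx130 (by rw [hrank]; decide) E hfixE hconjE hcardE huE
      hu5' (by rw [hrank]; decide)
    intro s hs
    refine col_injective hR hdet0 (hR.act_lt u hs) hs ?_
    rw [col_act hR u hs, h1, Matrix.one_mulVec]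
  -- the centralizer of `y` has its Sylow 5-subgroup in the torus
  let C : Subgroup ↥(D.group K) := Subgroup.centralizer {y}
  have hycomm : ∀ t : φ5.range, (t : ↥(D.group K)) ∈ C := by
    rintro ⟨t, a, rfl⟩
    rw [Subgroup.mem_centralizer_iff]
    rintro _ rfl
    refine Subtype.ext ?_
    show (y : GL D.Idx K) * S.tau hS hR hM _ = S.tau hS hR hM _ * (y : GL D.Idx K)
    rw [hyv]
    exact S.Hbar_comm hS hR hM _ (htauH _) _ (htauH _)
  let T5 : Subgroup C := φ5.range.subgroupOf C
  have hT5p : IsPGroup 5 T5 := by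
    rintro ⟨⟨t, htC⟩, a, ha⟩
    refine ⟨1, Subtype.ext (Subtype.ext ?_)⟩
    simp only [SubgroupClass.coe_pow, OneMemClass.coe_one, pow_one]
    rw [← (show φ5 a = t from ha), ← map_pow, show a ^ 5 = 1 from funext fun j => ?_, map_one]
    exact Multiplicative.toAdd.injective (by simp; exact Or.inl (by decide))
  obtain ⟨Q, hQ⟩ := hT5p.exists_le_sylow
  have hT5Q : T5 = (Q : Subgroup C) := by
    by_contra hne
    haveI : Group.IsNilpotent (Q : Subgroup C) := Q.2.isNilpotent
    let T' : Subgroup (Q : Subgroup C) := T5.subgroupOf Q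
    have hlt : T' < ⊤ := lt_of_le_of_ne le_top fun h =>
      hne (le_antisymm hQ (Subgroup.subgroupOf_eq_top.1 h))
    obtain ⟨a, haN, haT⟩ := SetLike.exists_of_lt (normalizerCondition_of_isNilpotent T' hlt)
    have hex : ∃ k, a ^ 5 ^ k ∈ T' := by
      obtain ⟨k, hk⟩ := Q.2 a
      exact ⟨k, by rw [hk]; exact one_mem _⟩
    obtain ⟨m, hm⟩ : ∃ m, Nat.find hex = m + 1 := Nat.exists_eq_succ_of_ne_zero fun h0 => haT (by
      have := Nat.find_spec hex
      rwa [h0, pow_zero, pow_one] at this)
    set z' := a ^ 5 ^ m with hz'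
    have hz'T : z' ∉ T' := Nat.find_min hex (by omega)
    have hz'5 : z' ^ 5 ∈ T' := by
      rw [hz', ← pow_mul, ← pow_succ, ← hm]
      exact Nat.find_spec hex
    have hz'N : z' ∈ Subgroup.normalizer (T' : Set (Q : Subgroup C)) := pow_mem haN _
    set z : GL D.Idx K := ((((z' : (Q : Subgroup C)) : C) : ↥(D.group K)) : GL D.Idx K) with hzdef
    have hzG : z ∈ S.Gbar := hGK ▸ (((z' : (Q : Subgroup C)) : C) : ↥(D.group K)).2
    obtain ⟨b, hb, w, -, v, hv, hzeq⟩ := S.mem_NF hS hR hzG
    have hzy : z * (y : GL D.Idx K) = (y : GL D.Idx K) * z :=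
      (congrArg Subtype.val (Subgroup.mem_centralizer_iff.1 ((z' : (Q : Subgroup C)) : C).2 y rfl)).symm
    have hwt : ∀ a5 : Fin D.rank → Multiplicative (ZMod (5)),
        S.nW w * S.tau hS hR hM (g5.compLeft (Fin D.rank) a5) * (S.nW w)⁻¹ =
          z * S.tau hS hR hM (g5.compLeft (Fin D.rank) a5) * z⁻¹ := by
      intro a5
      have hmem1 : φ5 a5 ∈ C := hycomm ⟨_, a5, rfl⟩
      have hmemQ : (⟨φ5 a5, hmem1⟩ : C) ∈ (Q : Subgroup C) := hQ ⟨a5, rfl⟩
      have hmemT : (⟨⟨φ5 a5, hmem1⟩, hmemQ⟩ : (Q : Subgroup C)) ∈ T' := ⟨a5, rfl⟩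
      obtain ⟨a6, ha6⟩ := (Subgroup.mem_normalizer_iff.1 hz'N _).1 hmemT
      have e1 : S.tau hS hR hM (g5.compLeft (Fin D.rank) a6) =
          z * S.tau hS hR hM (g5.compLeft (Fin D.rank) a5) * z⁻¹ := congrArg Subtype.val ha6
      rw [← e1]
      refine conj_nW_eq S hS hR hM hb hv (htauH _) (htauH _) ?_
      rw [← hzeq, e1]
      group
    have hwy : S.nW w * S.tau hS hR hM c13 * (S.nW w)⁻¹ = S.tau hS hR hM c13 := by
      refine conj_nW_eq S hS hR hM hb hv (htauH _) (htauH _) ?_
      rw [← hzeq, ← hyv]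
      exact hzy
    have hh0 : (S.nW w)⁻¹ * z ∈ S.Hbar := by
      refine mem_Hbar_of_commute_family S hS hR hM (fun a5 => g5.compLeft (Fin D.rank) a5) ?_ ?_ ?_ ?_
      · intro s hs
        by_contra hall
        push Not at hall
        have h0 : ∀ j : Fin D.rank, ((D.cartan j s : ℤ) : ZMod (5)) = 0 := fun j => by
          have h1 : ∏ k : Fin D.rank, g5 (Multiplicative.ofAdd ((Pi.single j 1 : Fin D.rank → ZMod (5)) k)) ^ D.cartan k s = 1 :=
            hall fun k => Multiplicative.ofAdd ((Pi.single j 1 : Fin D.rank → ZMod (5)) k)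
          rw [root_hom g5, ← map_one g5] at h1
          have h2 := Multiplicative.ofAdd.injective (hg5 h1)
          simpa [valMod, Pi.single_apply] using h2
        have h3 : col D s = 0 := funext fun j => by
          have h1 := (ZMod.intCast_zmod_eq_zero_iff_dvd _ _).1 (h0 j)
          have h2 := abs_le.1 (hsmall j s hs)
          obtain ⟨k, hk⟩ := h1
          show D.cartan j s = 0
          push_cast at hk
          omega
        have h4 : col D (D.neg s) = col D s := funext fun j => by
          show D.cartan j (D.neg s) = D.cartan j s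
          rw [hR.cartan_neg j.2 hs, show D.cartan j s = 0 from congrFun h3 j, neg_zero]
        exact hR.neg_ne hs (col_injective hR hdet0 (hR.neg_lt s hs) hs h4)
      · intro u hu s hs
        refine hmod5 _ (hR.act_lt u hs) s hs fun j => ?_
        have h1 : ∏ k : Fin D.rank, g5 (Multiplicative.ofAdd ((Pi.single j 1 : Fin D.rank → ZMod (5)) k)) ^ D.cartan k s =
            ∏ k : Fin D.rank, g5 (Multiplicative.ofAdd ((Pi.single j 1 : Fin D.rank → ZMod (5)) k)) ^ D.cartan k (act D u s) :=
          hu (fun k => Multiplicative.ofAdd ((Pi.single j 1 : Fin D.rank → ZMod (5)) k)) s hs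
        rw [root_hom g5, root_hom g5] at h1
        have h2 := Multiplicative.ofAdd.injective (hg5 h1)
        simpa [valMod, Pi.single_apply] using h2.symm
      · have hn : S.nW w ∈ S.Gbar := by
          rw [S.Gbar_eq hR hS]; exact Subgroup.mem_sup_right (S.nW_mem_Nbar w)
        exact mul_mem (inv_mem hn) hzG
      · intro a5
        have h1 := hwt a5
        calc (S.nW w)⁻¹ * z * S.tau hS hR hM (g5.compLeft (Fin D.rank) a5)
            = (S.nW w)⁻¹ * (z * S.tau hS hR hM (g5.compLeft (Fin D.rank) a5) * z⁻¹) * z := by group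
          _ = _ := by rw [← h1]; group
    have hzw : z = S.nW w * ((S.nW w)⁻¹ * z) := by group
    obtain ⟨h', hh', e5⟩ := nW_flatten S _ (w := w) hS hR hh0 5
    rw [← hzw] at e5
    have hz5H : z ^ 5 ∈ S.Hbar := by
      obtain ⟨a5, ha5⟩ := hz'5
      rw [show z ^ 5 = S.tau hS hR hM (g5.compLeft (Fin D.rank) a5) from (congrArg Subtype.val ha5).symm]
      exact htauH _
    have hn5 : S.nW (List.replicate 5 w).flatten ∈ S.Hbar := by
      have h1 := mul_mem hz5H (inv_mem hh')
      rwa [e5, mul_inv_cancel_right] at h1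
    have hu5 : ∀ s < D.nroots, act D (List.replicate 5 w).flatten s = s := fun s hs => by
      rw [S.act_eq_of_eq hS hR (w := (List.replicate 5 w).flatten) (v := []) (one_mem _) hn5
        (by rw [one_mul, Sys.nW_nil, mul_one]) s hs, act_nil]
    have hid := hstab5 w (fun s hs => by
      have h1 := valMod_of_conj S hS hR hM g13 hg13 x13 (q := 1) (w := w) (by rw [pow_one]; exact hwy) hs
      rw [Nat.cast_one, one_mul] at h1
      exact h1.symm) hu5
    have hzH : z ∈ S.Hbar := by
      rw [hzw]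
      exact mul_mem (S.nW_mem_Hbar_of_act hS hR fun r hr => by rw [hid r hr.1]; exact hr) hh0
    obtain ⟨c, hc⟩ := (S.tau_range hS hR hM).ge hzH
    -- a torus element of 5-power order has order dividing 5
    have hc25 : c ^ 5 ^ 2 = 1 := by
      have hz25 : z ^ 5 ^ 2 = 1 := by
        obtain ⟨a5, ha5⟩ := hz'5
        rw [show (5 : ℕ) ^ 2 = 5 * 5 from rfl, pow_mul,
          show z ^ 5 = S.tau hS hR hM (g5.compLeft (Fin D.rank) a5) from (congrArg Subtype.val ha5).symm,
          ← map_pow, ← map_pow, show a5 ^ 5 = 1 from funext fun j =>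
            Multiplicative.toAdd.injective (by simp; exact Or.inl (by decide)), map_one, map_one]
      rw [← hc, ← map_pow] at hz25
      have h1 := (S.θ_tau_eq_one_iff hS hR hM _).1 (congrArg S.θ hz25)
      have h2 : powMap ((cartanMat D) * (cartanMat D).adjugate) (c ^ 5 ^ 2) = 1 := by
        rw [powMap_mul, show powMap (cartanMat D) (c ^ 5 ^ 2) = 1 from funext h1, powMap_one_right]
      rw [Matrix.mul_adjugate, hdetZ] at h2
      funext j
      have h3 := congrFun h2 j
      rw [powMap, Finset.prod_eq_single j (fun k _ hk => by simp [Matrix.one_apply_ne hk]) (by simp)] at h3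
      simp only [Matrix.smul_apply, Matrix.one_apply_eq, smul_eq_mul, mul_one, zpow_natCast, Pi.one_apply] at h3
      have h4 : orderOf ((c ^ 5 ^ 2) j) ∣ 2 := orderOf_dvd_of_pow_eq_one h3
      have h5 : orderOf ((c ^ 5 ^ 2) j) ∣ 4095 := by
        have h6 := orderOf_dvd_natCard ((c ^ 5 ^ 2) j)
        rwa [Nat.card_units, hcardK] at h6
      exact orderOf_eq_one_iff.1 (Nat.dvd_one.1 (show _ ∣ Nat.gcd 2 4095 from Nat.dvd_gcd h4 h5))
    have hroot : ∀ u : Kˣ, u ^ 5 ^ 2 = 1 → ∃ z, g5 z = u := fun u hu => by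
      have h5 : orderOf u ∣ 4095 := by
        have h6 := orderOf_dvd_natCard u
        rwa [Nat.card_units, hcardK] at h6
      have h7 : u ^ 5 = 1 := orderOf_dvd_iff_pow_eq_one.1
        (show orderOf u ∣ Nat.gcd (5 ^ 2) 4095 from Nat.dvd_gcd (orderOf_dvd_of_pow_eq_one hu) h5)
      have h2 : g5.range = (powMonoidHom 5 : Kˣ →* Kˣ).ker := by
        refine Subgroup.eq_of_le_of_card_ge ?_ (le_of_eq ?_)
        · rintro _ ⟨a5, rfl⟩
          rw [MonoidHom.mem_ker, powMonoidHom_apply, ← map_pow, ← map_one g5]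
          congr 1
          exact Multiplicative.toAdd.injective (by simp; exact Or.inl (by decide))
        · rw [IsCyclic.card_powMonoidHom_ker, Nat.card_units, hcardK,
            ← Nat.card_congr (MonoidHom.ofInjective hg5).toEquiv,
            Nat.card_congr Multiplicative.toAdd, Nat.card_zmod]
          rfl
      exact MonoidHom.mem_range.1 (h2.ge (MonoidHom.mem_ker.2 h7))
    choose a6 ha6 using fun j => hroot (c j) (congrFun hc25 j)
    refine hz'T ⟨a6, Subtype.ext ?_⟩
    show S.tau hS hR hM (fun j => g5 (a6 j)) = z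
    rw [show (fun j => g5 (a6 j)) = c from funext ha6, hc]
  -- move the element of order 5 into the torus
  let x5' : C := ⟨MulAut.conj γ (ψ (x ^ 13)), Subgroup.mem_centralizer_iff.2 (by
    rintro _ rfl
    rw [hy, ← map_mul, ← map_mul, ← map_mul, ← map_mul, (Commute.pow_pow_self x 5 13).eq])⟩
  have ho5' : orderOf x5' = 5 := by
    rw [← Subgroup.orderOf_coe]
    show orderOf (MulAut.conj γ (ψ (x ^ 13))) = 5
    rw [MulEquiv.orderOf_eq, orderOf_injective ψ hψ, ho5]
  obtain ⟨R, hR5⟩ := (IsPGroup.of_card (n := 1) (G := Subgroup.zpowers x5') (p := 5)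
    (by rw [Nat.card_zpowers, ho5', pow_one])).exists_le_sylow
  obtain ⟨δ, hδ⟩ := MulAction.exists_smul_eq C R Q
  obtain ⟨z5, hz5⟩ : ((MulAut.conj δ x5' : C) : ↥(D.group K)) ∈ φ5.range := by
    have h1 : MulAut.conj δ x5' ∈ ((δ • R : Sylow 5 C) : Subgroup C) := by
      rw [Sylow.smul_def, Sylow.pointwise_smul_def, ← MulAut.smul_def]
      exact Subgroup.smul_mem_pointwise_smul _ _ _ (hR5 (Subgroup.mem_zpowers _))
    rw [hδ, ← hT5Q] at h1
    exact h1
  set x5 : Fin D.rank → ZMod 5 := fun j => Multiplicative.toAdd (z5 j) with hx5def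
  set c5 : Fin D.rank → Kˣ := fun j => g5 (Multiplicative.ofAdd (x5 j)) with hc5
  have hx50 : x5 ≠ 0 := fun h0 => by
    have h1 : z5 = 1 := funext fun j => toAdd_eq_zero.1 (congrFun h0 j)
    rw [h1, map_one] at hz5
    have h2 : MulAut.conj δ x5' = 1 := Subtype.ext hz5.symm
    rw [MulEquiv.map_eq_one_iff] at h2
    rw [h2, orderOf_one] at ho5'
    norm_num at ho5'
  set ε : ↥(D.group K) := (δ : ↥(D.group K)) * γ with hε
  have e13 : (MulAut.conj ε (ψ (x ^ 5)) : GL D.Idx K) = S.tau hS hR hM c13 := by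
    rw [← hyv, hε, map_mul, MulAut.mul_apply, ← hy]
    have h1 := Subgroup.mem_centralizer_iff.1 δ.2 y rfl
    rw [MulAut.conj_apply, ← h1, mul_inv_cancel_right]
  have e5 : (MulAut.conj ε (ψ (x ^ 13)) : GL D.Idx K) = S.tau hS hR hM c5 := by
    rw [hε, map_mul, MulAut.mul_apply]
    exact (congrArg Subtype.val hz5).symm
  obtain ⟨b, -, w, v, -, hw⟩ := hfrob ε
  have hval : ∀ {r : ℕ} (g : Multiplicative (ZMod r) →* Kˣ), Function.Injective g → ∀ (xr : Fin D.rank → ZMod r)
      (z : ↥(D.group F)), (MulAut.conj ε (ψ z) : GL D.Idx K) =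
        S.tau hS hR hM (fun j => g (Multiplicative.ofAdd (xr j))) →
      ∀ s < D.nroots, valMod D xr (act D w.reverse s) = 2 * valMod D xr s := by
    intro r g hg xr z hz s hs
    have h1 := valMod_of_conj S hS hR hM g hg xr (q := 2) (hw z _ hz) (hR.act_lt w.reverse hs)
    rw [hR.act_act_reverse w hs] at h1
    rw [h1]
    rfl
  exact ⟨len, hR, w.reverse, x13, x5, eigMod_of_valMod hR h13det (hval g13 hg13 x13 _ e13), hx130,
    eigMod_of_valMod hR h5det (hval g5 hg5 x5 _ e5), hx50⟩

theorem eSeven_two_no_order_sixtyfive {F : Type} [Field F] [Fintype F] (hF : Fintype.card F = 2)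
    (x : ↥(chevE7.group F)) : orderOf x ≠ 65 := by
  intro hx
  obtain ⟨len, hR, w, a, b, ha, ha0, hb, hb0⟩ := exists_word_eigen (D := chevE7) (by simp) rfl detE7'
    (L := [2, 6, 8, 10, 12, 14, 18]) rfl (by simp) weylE7 (by decide +kernel) (fun K _ _ => orderE7 K) hF x hx
  exact eSeven_false hR w ha ha0 hb hb0

end Cfsg.Agent.CycTori
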