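import Cfsg.Agent.LieTori.RootMatrix
import Cfsg.Prelude.Def_ChevF4
import Mathlib.Tactic

/-!
The Weyl group of type `F₄` as a list of integer matrices, and a divisibility property of all of them
(owner: helper87; tables generated).
-/

set_option autoImplicit false

namespace Cfsg.Agent.CycTori.F4W

open Cfsg.Lie Cfsg.Agent.ChevGrp Cfsg.Agent.LieTori Matrix

/-- Integer matrices of size 4, by rows. -/
structure M4 where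
  (a00 a01 a02 a03 a10 a11 a12 a13 a20 a21 a22 a23 a30 a31 a32 a33 : ℤ)
  deriving DecidableEq

namespace M4

/-- The product. -/
def mul (x y : M4) : M4 :=
  ⟨x.a00 * y.a00 + x.a01 * y.a10 + x.a02 * y.a20 + x.a03 * y.a30,
   x.a00 * y.a01 + x.a01 * y.a11 + x.a02 * y.a21 + x.a03 * y.a31,
   x.a00 * y.a02 + x.a01 * y.a12 + x.a02 * y.a22 + x.a03 * y.a32,
   x.a00 * y.a03 + x.a01 * y.a13 + x.a02 * y.a23 + x.a03 * y.a33,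
   x.a10 * y.a00 + x.a11 * y.a10 + x.a12 * y.a20 + x.a13 * y.a30,
   x.a10 * y.a01 + x.a11 * y.a11 + x.a12 * y.a21 + x.a13 * y.a31,
   x.a10 * y.a02 + x.a11 * y.a12 + x.a12 * y.a22 + x.a13 * y.a32,
   x.a10 * y.a03 + x.a11 * y.a13 + x.a12 * y.a23 + x.a13 * y.a33,
   x.a20 * y.a00 + x.a21 * y.a10 + x.a22 * y.a20 + x.a23 * y.a30,
   x.a20 * y.a01 + x.a21 * y.a11 + x.a22 * y.a21 + x.a23 * y.a31,
   x.a20 * y.a02 + x.a21 * y.a12 + x.a22 * y.a22 + x.a23 * y.a32,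
   x.a20 * y.a03 + x.a21 * y.a13 + x.a22 * y.a23 + x.a23 * y.a33,
   x.a30 * y.a00 + x.a31 * y.a10 + x.a32 * y.a20 + x.a33 * y.a30,
   x.a30 * y.a01 + x.a31 * y.a11 + x.a32 * y.a21 + x.a33 * y.a31,
   x.a30 * y.a02 + x.a31 * y.a12 + x.a32 * y.a22 + x.a33 * y.a32,
   x.a30 * y.a03 + x.a31 * y.a13 + x.a32 * y.a23 + x.a33 * y.a33⟩

/-- The identity. -/
def one : M4 := ⟨1, 0, 0, 0, 0, 1, 0, 0, 0, 0, 1, 0, 0, 0, 0, 1⟩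

/-- The matrix. -/
def toMat (x : M4) : Matrix (Fin 4) (Fin 4) ℤ :=
  !![x.a00, x.a01, x.a02, x.a03; x.a10, x.a11, x.a12, x.a13; x.a20, x.a21, x.a22, x.a23;
     x.a30, x.a31, x.a32, x.a33]

theorem toMat_one : toMat one = 1 := by decide +kernel

theorem toMat_mul (x y : M4) : toMat (mul x y) = toMat x * toMat y := by
  ext i j
  fin_cases i <;> fin_cases j <;> simp [toMat, mul, Matrix.mul_apply, Fin.sum_univ_four, add_assoc]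

/-- `x ^ 2 + c x + 1`. -/
def quad (c : ℤ) (x : M4) : M4 :=
  let s := mul x x
  ⟨s.a00 + c * x.a00 + 1, s.a01 + c * x.a01, s.a02 + c * x.a02, s.a03 + c * x.a03,
   s.a10 + c * x.a10, s.a11 + c * x.a11 + 1, s.a12 + c * x.a12, s.a13 + c * x.a13,
   s.a20 + c * x.a20, s.a21 + c * x.a21, s.a22 + c * x.a22 + 1, s.a23 + c * x.a23,
   s.a30 + c * x.a30, s.a31 + c * x.a31, s.a32 + c * x.a32, s.a33 + c * x.a33 + 1⟩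

theorem toMat_quad (c : ℤ) (x : M4) : toMat (quad c x) = toMat x * toMat x + c • toMat x + 1 := by
  ext i j
  fin_cases i <;> fin_cases j <;>
    simp [toMat, quad, mul, Matrix.mul_apply, Fin.sum_univ_four, Matrix.one_apply, add_assoc]

/-- The determinant, by expansion along the first two rows. -/
def det4 (x : M4) : ℤ :=
  (x.a00 * x.a11 - x.a01 * x.a10) * (x.a22 * x.a33 - x.a23 * x.a32)
  - (x.a00 * x.a12 - x.a02 * x.a10) * (x.a21 * x.a33 - x.a23 * x.a31)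
  + (x.a00 * x.a13 - x.a03 * x.a10) * (x.a21 * x.a32 - x.a22 * x.a31)
  + (x.a01 * x.a12 - x.a02 * x.a11) * (x.a20 * x.a33 - x.a23 * x.a30)
  - (x.a01 * x.a13 - x.a03 * x.a11) * (x.a20 * x.a32 - x.a22 * x.a30)
  + (x.a02 * x.a13 - x.a03 * x.a12) * (x.a20 * x.a31 - x.a21 * x.a30)

theorem det_toMat (x : M4) : (toMat x).det = det4 x := by
  simp [toMat, det4, Matrix.det_succ_row_zero, Fin.sum_univ_succ, Fin.succAbove]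
  ring

/-- The determinant is divisible by no prime larger than 3. -/
def small (x : M4) : Bool := det4 x != 0 && (6 ^ 20 : ℤ) % det4 x == 0

/-- No two of `Φ₃`, `Φ₄`, `Φ₆` are singular modulo primes larger than 3. -/
def good (x : M4) : Bool :=
  (small (quad 1 x) || small (quad (-1) x)) && (small (quad 0 x) || small (quad (-1) x)) &&
    (small (quad 1 x) || small (quad 0 x))

end M4

/-- Coset representatives of the stabilizer of the highest root. -/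
def repsF4 : List M4 := [
  ⟨1, 0, 0, 0, 0, 1, 0, 0, 0, 0, 1, 0, 0, 0, 0, 1⟩,
  ⟨-1, 0, 0, 0, 1, 1, 0, 0, 0, 0, 1, 0, 0, 0, 0, 1⟩,
  ⟨0, 1, 0, 0, -1, -1, 0, 0, 1, 1, 1, 0, 0, 0, 0, 1⟩,
  ⟨0, 1, 0, 0, 1, 1, 2, 0, -1, -1, -1, 0, 1, 1, 1, 1⟩,
  ⟨0, 1, 0, 0, 1, 1, 2, 0, 0, 0, 0, 1, -1, -1, -1, -1⟩,
  ⟨1, 2, 2, 0, -1, -1, -2, 0, 0, 0, 1, 0, 1, 1, 1, 1⟩,
  ⟨-1, -2, -2, 0, 0, 1, 0, 0, 0, 0, 1, 0, 1, 1, 1, 1⟩,
  ⟨1, 2, 2, 0, -1, -1, -2, 0, 1, 1, 2, 1, -1, -1, -1, -1⟩,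
  ⟨-1, -2, -2, 0, 0, 1, 0, 0, 1, 1, 2, 1, -1, -1, -1, -1⟩,
  ⟨1, 2, 2, 0, 1, 1, 2, 2, -1, -1, -2, -1, 0, 0, 1, 0⟩,
  ⟨-1, -2, -2, 0, 2, 3, 4, 2, -1, -1, -2, -1, 0, 0, 1, 0⟩,
  ⟨2, 3, 4, 2, -1, -1, -2, -2, 0, 0, 0, 1, 0, 0, 1, 0⟩,
  ⟨-2, -3, -4, -2, 1, 2, 2, 0, 0, 0, 0, 1, 0, 0, 1, 0⟩,
  ⟨1, 1, 2, 2, -2, -3, -4, -2, 1, 2, 2, 1, 0, 0, 1, 0⟩,
  ⟨-1, -1, -2, -2, -1, -2, -2, 0, 1, 2, 2, 1, 0, 0, 1, 0⟩,
  ⟨1, 1, 2, 2, 0, 1, 0, 0, -1, -2, -2, -1, 1, 2, 3, 1⟩,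
  ⟨-1, -1, -2, -2, 1, 2, 2, 2, -1, -2, -2, -1, 1, 2, 3, 1⟩,
  ⟨1, 1, 2, 2, 0, 1, 0, 0, 0, 0, 1, 0, -1, -2, -3, -1⟩,
  ⟨-1, -1, -2, -2, 1, 2, 2, 2, 0, 0, 1, 0, -1, -2, -3, -1⟩,
  ⟨0, 1, 0, 0, -1, -2, -2, -2, 0, 0, 0, 1, 1, 2, 3, 1⟩,
  ⟨0, 1, 0, 0, -1, -2, -2, -2, 1, 2, 3, 2, -1, -2, -3, -1⟩,
  ⟨0, 1, 0, 0, 1, 2, 4, 2, -1, -2, -3, -2, 0, 0, 0, 1⟩,
  ⟨1, 3, 4, 2, -1, -2, -4, -2, 0, 0, 1, 0, 0, 0, 0, 1⟩,
  ⟨-1, -3, -4, -2, 0, 1, 0, 0, 0, 0, 1, 0, 0, 0, 0, 1⟩]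

/-- The stabilizer of the highest root. -/
def stabF4 : List M4 := [
  ⟨1, 0, 0, 0, 0, 1, 0, 0, 0, 0, 1, 0, 0, 0, 0, 1⟩,
  ⟨1, 0, 0, 0, 0, 1, 0, 0, 0, 0, 1, 1, 0, 0, 0, -1⟩,
  ⟨1, 0, 0, 0, 0, 1, 2, 0, 0, 0, -1, 0, 0, 0, 1, 1⟩,
  ⟨1, 1, 0, 0, 0, -1, 0, 0, 0, 1, 1, 0, 0, 0, 0, 1⟩,
  ⟨1, 0, 0, 0, 0, 1, 2, 0, 0, 0, 0, 1, 0, 0, -1, -1⟩,
  ⟨1, 0, 0, 0, 0, 1, 2, 2, 0, 0, -1, -1, 0, 0, 1, 0⟩,
  ⟨1, 1, 0, 0, 0, -1, 0, 0, 0, 1, 1, 1, 0, 0, 0, -1⟩,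
  ⟨1, 1, 0, 0, 0, 1, 2, 0, 0, -1, -1, 0, 0, 1, 1, 1⟩,
  ⟨1, 1, 2, 0, 0, -1, -2, 0, 0, 1, 1, 0, 0, 0, 1, 1⟩,
  ⟨1, 0, 0, 0, 0, 1, 2, 2, 0, 0, 0, -1, 0, 0, -1, 0⟩,
  ⟨1, 1, 0, 0, 0, 1, 2, 0, 0, 0, 0, 1, 0, -1, -1, -1⟩,
  ⟨1, 1, 0, 0, 0, 1, 2, 2, 0, -1, -1, -1, 0, 1, 1, 0⟩,
  ⟨1, 1, 2, 0, 0, -1, -2, 0, 0, 1, 2, 1, 0, 0, -1, -1⟩,
  ⟨1, 1, 2, 0, 0, 1, 0, 0, 0, -1, -1, 0, 0, 1, 2, 1⟩,
  ⟨1, 1, 2, 2, 0, -1, -2, -2, 0, 1, 1, 1, 0, 0, 1, 0⟩,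
  ⟨1, 2, 2, 0, 0, -1, -2, 0, 0, 0, 1, 0, 0, 1, 1, 1⟩,
  ⟨1, 1, 0, 0, 0, 1, 2, 2, 0, 0, 0, -1, 0, -1, -1, 0⟩,
  ⟨1, 1, 2, 0, 0, 1, 0, 0, 0, 0, 1, 1, 0, -1, -2, -1⟩,
  ⟨1, 1, 2, 0, 0, 1, 2, 2, 0, -1, -2, -1, 0, 1, 1, 0⟩,
  ⟨1, 1, 2, 2, 0, -1, -2, -2, 0, 1, 2, 1, 0, 0, -1, 0⟩,
  ⟨1, 1, 2, 2, 0, 1, 0, 0, 0, -1, -1, -1, 0, 1, 2, 1⟩,
  ⟨1, 2, 2, 0, 0, -1, -2, 0, 0, 1, 2, 1, 0, -1, -1, -1⟩,
  ⟨1, 2, 2, 0, 0, -1, 0, 0, 0, 0, -1, 0, 0, 1, 2, 1⟩,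
  ⟨1, 2, 2, 2, 0, -1, -2, -2, 0, 0, 1, 1, 0, 1, 1, 0⟩,
  ⟨1, 1, 2, 0, 0, 1, 2, 2, 0, 0, -1, -1, 0, -1, -1, 0⟩,
  ⟨1, 1, 2, 2, 0, 1, 0, 0, 0, 0, 1, 0, 0, -1, -2, -1⟩,
  ⟨1, 1, 2, 2, 0, 1, 2, 0, 0, -1, -2, -1, 0, 1, 1, 1⟩,
  ⟨1, 2, 2, 0, 0, -1, 0, 0, 0, 1, 1, 1, 0, -1, -2, -1⟩,
  ⟨1, 2, 2, 0, 0, 1, 2, 2, 0, -1, -2, -1, 0, 0, 1, 0⟩,
  ⟨1, 2, 2, 2, 0, -1, -2, -2, 0, 1, 2, 1, 0, -1, -1, 0⟩,
  ⟨1, 2, 2, 2, 0, -1, 0, 0, 0, 0, -1, -1, 0, 1, 2, 1⟩,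
  ⟨1, 2, 4, 2, 0, -1, -2, -2, 0, 0, 0, 1, 0, 1, 1, 0⟩,
  ⟨1, 1, 2, 2, 0, 1, 2, 0, 0, 0, -1, 0, 0, -1, -1, -1⟩,
  ⟨1, 2, 2, 0, 0, 1, 2, 2, 0, -1, -1, -1, 0, 0, -1, 0⟩,
  ⟨1, 2, 2, 2, 0, -1, 0, 0, 0, 1, 1, 0, 0, -1, -2, -1⟩,
  ⟨1, 2, 2, 2, 0, 1, 2, 0, 0, -1, -2, -1, 0, 0, 1, 1⟩,
  ⟨1, 2, 4, 2, 0, -1, -2, -2, 0, 1, 1, 1, 0, -1, -1, 0⟩,
  ⟨1, 2, 4, 2, 0, -1, -2, 0, 0, 0, 0, -1, 0, 1, 1, 1⟩,
  ⟨1, 3, 4, 2, 0, -1, -2, -2, 0, 0, 0, 1, 0, 0, 1, 0⟩,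
  ⟨1, 2, 2, 2, 0, 1, 2, 0, 0, -1, -1, 0, 0, 0, -1, -1⟩,
  ⟨1, 2, 4, 2, 0, -1, -2, 0, 0, 1, 1, 0, 0, -1, -1, -1⟩,
  ⟨1, 2, 4, 2, 0, 1, 0, 0, 0, -1, -1, -1, 0, 0, 0, 1⟩,
  ⟨1, 3, 4, 2, 0, -1, -2, -2, 0, 0, 1, 1, 0, 0, -1, 0⟩,
  ⟨1, 3, 4, 2, 0, -1, -2, 0, 0, 0, 0, -1, 0, 0, 1, 1⟩,
  ⟨1, 2, 4, 2, 0, 1, 0, 0, 0, -1, -1, 0, 0, 0, 0, -1⟩,
  ⟨1, 3, 4, 2, 0, -1, -2, 0, 0, 0, 1, 0, 0, 0, -1, -1⟩,
  ⟨1, 3, 4, 2, 0, -1, 0, 0, 0, 0, -1, -1, 0, 0, 0, 1⟩,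
  ⟨1, 3, 4, 2, 0, -1, 0, 0, 0, 0, -1, 0, 0, 0, 0, -1⟩]

/-- Left multiplication of the representatives by the generators. -/
def stepF4 : List (List (ℕ × List ℕ)) := [
  [(1, []), (0, [1]), (0, [2]), (0, [3])],
  [(0, []), (2, []), (1, [2]), (1, [3])],
  [(2, [1]), (1, []), (3, []), (2, [3])],
  [(3, [1]), (5, []), (2, []), (4, [])],
  [(4, [1]), (7, []), (4, [3]), (3, [])],
  [(6, []), (3, []), (5, [2]), (7, [])],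
  [(5, []), (6, [1]), (6, [2]), (8, [])],
  [(8, []), (4, []), (9, []), (5, [])],
  [(7, []), (8, [1]), (10, []), (6, [])],
  [(10, []), (11, []), (7, []), (9, [2])],
  [(9, []), (13, []), (8, []), (10, [2])],
  [(12, []), (9, []), (11, [3]), (11, [2])],
  [(11, []), (14, []), (12, [3]), (12, [2])],
  [(14, []), (10, []), (15, []), (13, [2])],
  [(13, []), (12, []), (16, []), (14, [2])],
  [(16, []), (15, [1]), (13, []), (17, [])],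
  [(15, []), (19, []), (14, []), (18, [])],
  [(18, []), (17, [1]), (17, [2]), (15, [])],
  [(17, []), (20, []), (18, [2]), (16, [])],
  [(19, [1]), (16, []), (19, [3]), (20, [])],
  [(20, [1]), (18, []), (21, []), (19, [])],
  [(21, [1]), (22, []), (20, []), (21, [3])],
  [(23, []), (21, []), (22, [2]), (22, [3])],
  [(22, []), (23, [1]), (23, [2]), (23, [3])]]

/-- Left multiplication of the stabilizer by its generators. -/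
def stabStepF4 : List (List ℕ) := [
  [3, 2, 1],
  [6, 5, 0],
  [8, 0, 4],
  [0, 7, 6],
  [12, 9, 2],
  [14, 1, 9],
  [1, 11, 3],
  [15, 3, 10],
  [2, 13, 12],
  [19, 4, 5],
  [21, 16, 7],
  [23, 6, 16],
  [4, 18, 8],
  [22, 8, 17],
  [5, 20, 19],
  [7, 22, 21],
  [29, 10, 11],
  [27, 24, 13],
  [31, 12, 24],
  [9, 26, 14],
  [30, 14, 25],
  [10, 28, 15],
  [13, 15, 27],
  [11, 30, 29],
  [36, 17, 18],
  [34, 32, 20],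
  [37, 19, 32],
  [17, 33, 22],
  [38, 21, 33],
  [16, 35, 23],
  [20, 23, 34],
  [18, 37, 36],
  [40, 25, 26],
  [42, 27, 28],
  [25, 39, 30],
  [43, 29, 39],
  [24, 41, 31],
  [26, 31, 40],
  [28, 43, 42],
  [45, 34, 35],
  [32, 44, 37],
  [46, 36, 44],
  [33, 46, 38],
  [35, 38, 45],
  [47, 40, 41],
  [39, 47, 43],
  [41, 42, 47],
  [44, 45, 46]]

/-- The fundamental reflections. -/
def genF4 (i : ℕ) : M4 :=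
  [(⟨-1, 0, 0, 0, 1, 1, 0, 0, 0, 0, 1, 0, 0, 0, 0, 1⟩ : M4), ⟨1, 1, 0, 0, 0, -1, 0, 0, 0, 1, 1, 0, 0, 0, 0, 1⟩,
    ⟨1, 0, 0, 0, 0, 1, 2, 0, 0, 0, -1, 0, 0, 0, 1, 1⟩, ⟨1, 0, 0, 0, 0, 1, 0, 0, 0, 0, 1, 1, 0, 0, 0, -1⟩].getD i M4.one

/-- The product of generators. -/
def prodF4 : List ℕ → M4
  | [] => M4.one
  | i :: w => M4.mul (genF4 i) (prodF4 w)

/-- The checks on the tables. -/
def closedCheck : Bool :=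
  (repsF4.head? == some M4.one) && (stabF4.head? == some M4.one) &&
  (List.range 24).all (fun i => (List.range 4).all fun g =>
    let e := (stepF4.getD i []).getD g (0, [])
    decide (e.1 < 24) && e.2.all (fun k => decide (1 ≤ k ∧ k ≤ 3)) &&
      (M4.mul (genF4 g) (repsF4.getD i M4.one) == M4.mul (repsF4.getD e.1 M4.one) (prodF4 e.2))) &&
  (List.range 48).all (fun j => (List.range 3).all fun g =>
    let e := (stabStepF4.getD j []).getD g 0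
    decide (e < 48) && (M4.mul (genF4 (g + 1)) (stabF4.getD j M4.one) == stabF4.getD e M4.one))

/-- The check on all elements. -/
def goodCheck : Bool :=
  (List.range 24).all fun i => (List.range 48).all fun j =>
    (M4.mul (repsF4.getD i M4.one) (stabF4.getD j M4.one)).good

theorem closedCheck_true : closedCheck = true := by decide +kernel

theorem goodCheck_true : goodCheck = true := by decide +kernel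

theorem toMat_gen (i : Fin 4) :
    M4.toMat (genF4 i) = LieTori.reflMat (l := 4) (cartanMat chevF4) i := by
  revert i
  decide +kernel

theorem exists_stab (v : List ℕ) (hv : ∀ k ∈ v, 1 ≤ k ∧ k ≤ 3) {j : ℕ} (hj : j < 48) :
    ∃ j' < 48, M4.toMat (prodF4 v) * M4.toMat (stabF4.getD j M4.one) = M4.toMat (stabF4.getD j' M4.one) := by
  induction v with
  | nil => exact ⟨j, hj, by rw [prodF4, M4.toMat_one, one_mul]⟩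
  | cons k v ih =>
    obtain ⟨a, ha, e⟩ := ih fun m hm => hv m (List.mem_cons_of_mem _ hm)
    obtain ⟨hk1, hk3⟩ := hv k List.mem_cons_self
    have h := closedCheck_true
    simp only [closedCheck, Bool.and_eq_true, List.all_eq_true, List.mem_range, decide_eq_true_eq, beq_iff_eq] at h
    obtain ⟨h1, h2⟩ := h.2 a ha (k - 1) (by omega)
    refine ⟨_, h1, ?_⟩
    rw [prodF4, M4.toMat_mul, mul_assoc, e, ← M4.toMat_mul]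
    rw [Nat.sub_add_cancel hk1] at h2
    rw [h2]

theorem exists_elem (w : List (Fin 4)) :
    ∃ i < 24, ∃ j < 48, LieTori.wMat (l := 4) (cartanMat chevF4) w =
      M4.toMat (M4.mul (repsF4.getD i M4.one) (stabF4.getD j M4.one)) := by
  induction w with
  | nil => exact ⟨0, by norm_num, 0, by norm_num, by decide +kernel⟩
  | cons g w ih =>
    obtain ⟨i, hi, j, hj, e⟩ := ih
    have h := closedCheck_true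
    simp only [closedCheck, Bool.and_eq_true, List.all_eq_true, List.mem_range, decide_eq_true_eq, beq_iff_eq] at h
    obtain ⟨⟨h1, h2⟩, h3⟩ := h.1.2 i hi g g.2
    obtain ⟨j', hj', e'⟩ := exists_stab _ h2 hj
    refine ⟨_, h1, j', hj', ?_⟩
    refine (LieTori.wMat_cons (l := 4) _ g w).trans ?_
    rw [e, ← toMat_gen, M4.toMat_mul, M4.toMat_mul, ← mul_assoc, ← M4.toMat_mul, h3,
      M4.toMat_mul, mul_assoc, e']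

/-- No element of the Weyl group has eigenvalues of two of the orders `3`, `4`, `6` modulo primes greater
than 3. -/
theorem not_singular_pair (w : List (Fin 4)) {r s : ℕ} (hr : r.Prime) (hs : s.Prime) (hr3 : 3 < r) (hs3 : 3 < s)
    {c d : ℤ} (hcd : (c, d) ∈ [((1 : ℤ), (-1 : ℤ)), (0, -1), (1, 0)])
    (P : Matrix (Fin 4) (Fin 4) ℤ) (hP : P = LieTori.wMat (l := 4) (cartanMat chevF4) w)
    (hc : (r : ℤ) ∣ (P * P + c • P + 1).det) (hd : (s : ℤ) ∣ (P * P + d • P + 1).det) : False := by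
  obtain ⟨i, hi, j, hj, e⟩ := exists_elem w
  have hg := goodCheck_true
  simp only [goodCheck, List.all_eq_true, List.mem_range] at hg
  have hg' := hg i hi j hj
  set x := M4.mul (repsF4.getD i M4.one) (stabF4.getD j M4.one) with hx
  rw [hP, e, ← M4.toMat_quad, M4.det_toMat] at hc hd
  have key : ∀ {p : ℕ} {y : M4}, p.Prime → 3 < p → M4.small y = true → ¬ (p : ℤ) ∣ M4.det4 y := by
    intro p y hp hp3 hy hdv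
    simp only [M4.small, Bool.and_eq_true, bne_iff_ne, beq_iff_eq] at hy
    have h1 : (p : ℤ) ∣ (6 : ℤ) ^ 20 := hdv.trans (Int.dvd_of_emod_eq_zero hy.2)
    have h2 : p ∣ 6 ^ 20 := by exact_mod_cast h1
    have h3 : p ≤ 6 := Nat.le_of_dvd (by norm_num) (hp.dvd_of_dvd_pow h2)
    have h4 := hp.dvd_of_dvd_pow h2
    interval_cases p <;> revert hp h4 <;> norm_num
  simp only [M4.good, Bool.and_eq_true, Bool.or_eq_true] at hg'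
  simp only [List.mem_cons, List.not_mem_nil, or_false, Prod.mk.injEq] at hcd
  rcases hcd with ⟨rfl, rfl⟩ | ⟨rfl, rfl⟩ | ⟨rfl, rfl⟩
  · rcases hg'.1.1 with h | h
    exacts [key hr hr3 h hc, key hs hs3 h hd]
  · rcases hg'.1.2 with h | h
    exacts [key hr hr3 h hc, key hs hs3 h hd]
  · rcases hg'.2 with h | h
    exacts [key hr hr3 h hc, key hs hs3 h hd]

end Cfsg.Agent.CycTori.F4W
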