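import Cfsg.Agent.LieTori.CycBound
import Cfsg.Agent.ChevGrp.RootKer
import Mathlib.LinearAlgebra.FreeModule.Finite.CardQuotient
import Mathlib.GroupTheory.SpecificGroups.Cyclic

/-!
Integer matrices with a cyclotomic characteristic polynomial acting on powers of a cyclic group:
cyclicity and order of the kernel (owner: helper87).
-/

set_option autoImplicit false
set_option linter.style.haveILetI false

namespace Cfsg.Agent.CycTori

open Matrix Polynomial Cfsg.Agent.ChevGrp Cfsg.Agent.LieTori

variable {l : ℕ}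

/-- An eigenvalue of exact order `h` modulo `r` forces the characteristic polynomial to be `Φ_h`. -/
theorem charpoly_eq_cyclotomic {n r h : ℕ} [Fact r.Prime] {P : Matrix (Fin l) (Fin l) ℤ} (hP : P ^ n = 1)
    (hrn : ¬ r ∣ n) (hh : 0 < h) {ζ : ZMod r} (hζ : orderOf ζ = h) (hl : h.totient = l)
    {x : Fin l → ZMod r} (hx : x ∈ eigMod P ζ) (hx0 : x ≠ 0) : P.charpoly = cyclotomic h ℤ := by
  have h1 := cyclotomic_pow_dvd_charpoly hP hrn hh hζ
  have h2 : Module.finrank (ZMod r) (eigMod P ζ) ≠ 0 := by
    rw [Ne, Submodule.finrank_eq_zero]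
    exact fun hb => hx0 ((Submodule.mem_bot _).1 (hb ▸ hx))
  refine (eq_of_monic_of_dvd_of_natDegree_le (cyclotomic.monic h ℤ) P.charpoly_monic
    ((dvd_pow_self _ h2).trans h1) ?_)
  rw [P.charpoly_natDegree_eq_dim, Fintype.card_fin, natDegree_cyclotomic, hl]

/-- If the characteristic polynomial is irreducible, every nonzero vector is cyclic. -/
theorem eq_zero_of_orbit {h : ℕ} (hh : 0 < h) {M : Matrix (Fin l) (Fin l) ℤ} (hM : M.charpoly = cyclotomic h ℤ)
    {v k : Fin l → ℤ} (hv : v ≠ 0) (hk : ∀ i : ℕ, k ⬝ᵥ (M ^ i *ᵥ v) = 0) : k = 0 := by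
  classical
  let φ := Int.castRingHom ℚ
  let M' : Matrix (Fin l) (Fin l) ℚ := φ.mapMatrix M
  let v' : Fin l → ℚ := fun j => (v j : ℚ)
  let k' : Fin l → ℚ := fun j => (k j : ℚ)
  have hv' : v' ≠ 0 := fun h0 => hv (funext fun j => by simpa [v'] using congrFun h0 j)
  have hch : M'.charpoly = cyclotomic h ℚ := by
    rw [show M' = M.map φ from rfl, Matrix.charpoly_map, hM, map_cyclotomic]
  have hirr : Irreducible M'.charpoly := hch ▸ cyclotomic.irreducible_rat hh
  have hli : LinearIndependent ℚ fun i : Fin l => M' ^ (i : ℕ) *ᵥ v' := by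
    rw [Fintype.linearIndependent_iff]
    intro c hc i
    let p : ℚ[X] := ∑ j : Fin l, C (c j) * X ^ (j : ℕ)
    have hdeg : p.degree < (l : WithBot ℕ) := degree_sum_fin_lt c
    have hpv : aeval M' p *ᵥ v' = 0 := by
      rw [← hc]
      simp [p, Matrix.sum_mulVec, Algebra.algebraMap_eq_smul_one, Matrix.smul_mulVec]
    by_cases hp : p = 0
    · have hco := congrArg (fun f : ℚ[X] => f.coeff (i : ℕ)) hp
      simpa [p, finsetSum_coeff, coeff_C_mul, coeff_X_pow, Fin.val_inj] using hco
    · exfalso
      have hnd : ¬ M'.charpoly ∣ p := fun hd => by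
        have h3 := natDegree_le_of_dvd hd hp
        rw [M'.charpoly_natDegree_eq_dim, Fintype.card_fin] at h3
        have h4 : p.natDegree < l := (natDegree_lt_iff_degree_lt hp).2 hdeg
        omega
      obtain ⟨a, b, hab⟩ := hirr.coprime_iff_not_dvd.2 hnd
      apply hv'
      have h5 := congrArg (fun f => aeval M' f *ᵥ v') hab
      simpa [Matrix.aeval_self_charpoly, ← Matrix.mulVec_mulVec, hpv] using h5.symm
  have hspan := hli.span_eq_top_of_card_eq_finrank' (by simp)
  have hkill : ∀ y : Fin l → ℚ, k' ⬝ᵥ y = 0 := by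
    intro y
    have hy : y ∈ Submodule.span ℚ (Set.range fun i : Fin l => M' ^ (i : ℕ) *ᵥ v') := hspan ▸ Submodule.mem_top
    induction hy using Submodule.span_induction with
    | mem y hy =>
      obtain ⟨i, rfl⟩ := hy
      have h6 := congrArg φ (hk i)
      rw [map_zero, RingHom.map_dotProduct] at h6
      simp only
      rw [show M' ^ (i : ℕ) = φ.mapMatrix (M ^ (i : ℕ)) from (map_pow φ.mapMatrix M _).symm]
      rw [← h6]
      refine congrArg (k' ⬝ᵥ ·) ?_
      funext j
      exact (RingHom.map_mulVec φ _ _ j).symm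
    | zero => exact dotProduct_zero _
    | add a b _ _ ha hb => rw [dotProduct_add, ha, hb, add_zero]
    | smul c a _ ha => rw [dotProduct_smul, ha, smul_zero]
  funext j
  simpa [k'] using hkill (Pi.single j 1)

/-- The endomorphism of a power of an abelian group given by an integer matrix. -/
def powHom {G : Type*} [CommGroup G] {a b : ℕ} (M : Matrix (Fin a) (Fin b) ℤ) :
    (Fin a → G) →* (Fin b → G) where
  toFun := powMap M
  map_one' := powMap_one_right M
  map_mul' x y := by
    funext k
    simp [powMap, mul_zpow, Finset.prod_mul_distrib]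

theorem powHom_apply {G : Type*} [CommGroup G] {a b : ℕ} (M : Matrix (Fin a) (Fin b) ℤ) (c : Fin a → G) :
    powHom M c = powMap M c := rfl

/-- The kernel of an integer matrix on a power of a big enough cyclic group has the order of the determinant. -/
theorem card_ker_powHom {U : Type*} [CommGroup U] [Finite U] [IsCyclic U] {A : Matrix (Fin l) (Fin l) ℤ}
    {N : ℕ} (hN : N ≠ 0) (hdet : A.det = (N : ℤ)) (hdvd : N ∣ Nat.card U) :
    Nat.card (powHom (G := U) A).ker = N := by
  classical
  obtain ⟨g, hg⟩ := IsCyclic.exists_generator (α := U)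
  have hgm : orderOf g = Nat.card U := orderOf_eq_card_of_forall_mem_zpowers hg
  have hdet0 : A.det ≠ 0 := by rw [hdet]; exact_mod_cast hN
  let f : (Fin l → ℤ) →ₗ[ℤ] (Fin l → ℤ) := Matrix.toLin' Aᵀ
  have hf : ∀ u, f u = u ᵥ* A := fun u => by
    simp [f, Matrix.toLin'_apply, Matrix.mulVec_transpose]
  have hinj : Function.Injective f := by
    intro u v e
    rw [hf, hf, ← sub_eq_zero, ← Matrix.sub_vecMul] at e
    exact sub_eq_zero.1 (Matrix.eq_zero_of_vecMul_eq_zero hdet0 e)
  let e : (Fin l → ℤ) ≃ₗ[ℤ] LinearMap.range f := LinearEquiv.ofInjective f hinj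
  have hidx : (LinearMap.range f).toAddSubgroup.index = N := by
    have h1 := Submodule.natAbs_det_equiv (LinearMap.range f) e
    rw [show ((LinearMap.range f).subtype ∘ₗ AddMonoidHom.toIntLinearMap (e : (Fin l → ℤ) →+ LinearMap.range f)) = f
      from LinearMap.ext fun u => rfl] at h1
    rw [show LinearMap.det f = A.det by simp [f, LinearMap.det_toLin', Matrix.det_transpose], hdet,
      Int.natAbs_natCast] at h1
    exact h1.symm
  let Φ : Multiplicative (Fin l → ℤ) →* (Fin l → U) :=
    { toFun := fun u j => g ^ (Multiplicative.toAdd u j)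
      map_one' := funext fun j => by simp
      map_mul' := fun u v => funext fun j => by simp [_root_.zpow_add] }
  have hΦ : Function.Surjective Φ := fun c => by
    choose u hu using fun j => Subgroup.mem_zpowers_iff.1 (hg (c j))
    exact ⟨Multiplicative.ofAdd u, funext fun j => by simpa [Φ] using hu j⟩
  let R : Subgroup (Multiplicative (Fin l → ℤ)) := (LinearMap.range f).toAddSubgroup.toSubgroup
  have key : ∀ u : Fin l → ℤ, powHom A (Φ (Multiplicative.ofAdd u)) = Φ (Multiplicative.ofAdd (u ᵥ* A)) := by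
    intro u
    funext k
    show ∏ j, (g ^ u j) ^ A j k = g ^ (u ᵥ* A) k
    simp only [← _root_.zpow_mul, Matrix.vecMul, dotProduct]
    induction (Finset.univ : Finset (Fin l)) using Finset.induction_on with
    | empty => simp
    | insert a s ha ih => rw [Finset.sum_insert ha, Finset.prod_insert ha, _root_.zpow_add, ih]
  have hrange : R.map Φ = (powHom (G := U) A).range := by
    refine le_antisymm ?_ ?_
    · rintro _ ⟨u, ⟨w, hw⟩, rfl⟩
      refine ⟨Φ (Multiplicative.ofAdd w), ?_⟩
      rw [key, ← hf, hw]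
      rfl
    · rintro _ ⟨c, rfl⟩
      obtain ⟨u, rfl⟩ := hΦ c
      exact ⟨Multiplicative.ofAdd (Multiplicative.toAdd u ᵥ* A), ⟨Multiplicative.toAdd u, hf _⟩,
        (key (Multiplicative.toAdd u)).symm⟩
  have hker : Φ.ker ≤ R := by
    intro u hu
    have hd : ∀ j, (Nat.card U : ℤ) ∣ Multiplicative.toAdd u j := fun j => by
      rw [← hgm, orderOf_dvd_iff_zpow_eq_one]
      exact congrFun hu j
    choose w hw using hd
    obtain ⟨t, ht⟩ := hdvd
    refine ⟨(t : ℤ) • (w ᵥ* A.adjugate), ?_⟩
    rw [hf, Matrix.smul_vecMul, Matrix.vecMul_vecMul, Matrix.adjugate_mul, Matrix.vecMul_smul, Matrix.vecMul_one,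
      smul_smul, hdet]
    funext j
    show ((t : ℤ) * (N : ℤ)) * w j = Multiplicative.toAdd u j
    rw [hw j, ht]
    push_cast
    ring
  have h2 : (powHom (G := U) A).range.index = N := by
    rw [← hrange, Subgroup.index_map_eq R hΦ hker, ← hidx]
    rfl
  have h3 := (powHom (G := U) A).ker.card_mul_index
  rw [← (powHom (G := U) A).range.card_mul_index, h2,
    Subgroup.index_ker, mul_comm (Nat.card (powHom (G := U) A).range)] at h3
  exact Nat.eq_of_mul_eq_mul_right Nat.card_pos h3

/-- A finite abelian group with at most `s` elements killed by each prime `s` is cyclic. -/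
theorem isCyclic_of_prime_torsion {T : Type*} [CommGroup T] [Finite T]
    (h : ∀ s : ℕ, s.Prime → Nat.card (powMonoidHom s : T →* T).ker ≤ s) : IsCyclic T := by
  classical
  haveI := Fintype.ofFinite T
  have hb : ∀ n : ℕ, 0 < n → Nat.card (powMonoidHom n : T →* T).ker ≤ n := by
    intro n
    induction n using induction_on_primes with
    | zero => intro h0; exact absurd h0 (lt_irrefl 0)
    | one =>
      intro _
      rw [show (powMonoidHom 1 : T →* T).ker = ⊥ by
        rw [eq_bot_iff]; intro x hx; simpa [MonoidHom.mem_ker] using hx]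
      simp
    | prime_mul p a hp ih =>
      intro hpos
      have ha : 0 < a := Nat.pos_of_mul_pos_left hpos
      let K := (powMonoidHom (p * a) : T →* T).ker
      let φ : K →* T := (powMonoidHom p : T →* T).comp K.subtype
      have h1 : φ.range ≤ (powMonoidHom a : T →* T).ker := by
        rintro _ ⟨x, rfl⟩
        show ((x : T) ^ p) ^ a = 1
        rw [← pow_mul]
        exact x.2
      have h2 : Nat.card φ.ker ≤ p := by
        refine (Nat.card_le_card_of_injective
          (fun x : φ.ker => (⟨(x.1 : T), x.2⟩ : (powMonoidHom p : T →* T).ker)) ?_).trans (h p hp)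
        intro x y e
        exact Subtype.ext (Subtype.ext (congrArg (fun z : (powMonoidHom p : T →* T).ker => (z : T)) e))
      calc Nat.card K = Nat.card φ.ker * Nat.card φ.range := by
            rw [← φ.ker.card_mul_index, Subgroup.index_ker]
        _ ≤ p * a := Nat.mul_le_mul h2 ((Subgroup.card_le_of_le h1).trans (ih ha))
  refine isCyclic_of_card_pow_eq_one_le fun n hn => ?_
  refine le_of_eq_of_le ?_ (hb n hn)
  rw [Nat.card_eq_fintype_card, Fintype.card_subtype]
  simp [MonoidHom.mem_ker]

/-- The kernel of `q - P` on a power of a cyclic group, for `P` with characteristic polynomial `Φ_h`. -/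
theorem ker_sub_cyclic {U : Type*} [CommGroup U] [Finite U] [IsCyclic U] {P : Matrix (Fin l) (Fin l) ℤ}
    {h q N : ℕ} (hh : 0 < h) (hP : P.charpoly = cyclotomic h ℤ) (hNv : (cyclotomic h ℤ).eval (q : ℤ) = (N : ℤ))
    (hN : N ≠ 0) (hdvd : N ∣ Nat.card U) (hbad : ∀ s : ℕ, s.Prime → s ∣ h → s ∣ N → ¬ s ^ 2 ∣ N) :
    Nat.card (powHom (G := U) ((q : ℤ) • (1 : Matrix (Fin l) (Fin l) ℤ) - P)).ker = N ∧
      IsCyclic (powHom (G := U) ((q : ℤ) • (1 : Matrix (Fin l) (Fin l) ℤ) - P)).ker := by
  classical
  set A : Matrix (Fin l) (Fin l) ℤ := (q : ℤ) • 1 - P with hA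
  have hdet : A.det = (N : ℤ) := by
    rw [← hNv, ← hP, Matrix.eval_charpoly, hA, Matrix.scalar_apply, Matrix.smul_one_eq_diagonal]
  have hcard := card_ker_powHom (U := U) hN hdet hdvd
  refine ⟨hcard, isCyclic_of_prime_torsion fun s hs => ?_⟩
  haveI := Fact.mk hs
  set S := (powMonoidHom s : (powHom (G := U) A).ker →* (powHom (G := U) A).ker).ker with hS
  have hexp : ∀ x : S, x ^ s = 1 := fun x => Subtype.ext (by
    rw [Subgroup.coe_pow, Subgroup.coe_one]
    exact x.2)
  have hdS : Nat.card S ∣ N := hcard ▸ Subgroup.card_subgroup_dvd_card S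
  obtain ⟨k, hk⟩ : ∃ k, Nat.card S = s ^ k := by
    have hp : IsPGroup s S := fun x => ⟨1, by rw [pow_one]; exact hexp x⟩
    exact hp.exists_card_eq
  by_cases h2 : k ≤ 1
  · exact hk ▸ (Nat.pow_le_pow_right hs.pos h2).trans_eq (pow_one s)
  have hs2 : s ^ 2 ∣ N := (pow_dvd_pow s (by omega : 2 ≤ k)).trans (hk ▸ hdS)
  have hsN : s ∣ N := (dvd_pow_self s two_ne_zero).trans hs2
  have hsh : ¬ s ∣ h := fun hd => hbad s hs hd hsN hs2
  obtain ⟨g, hg⟩ := IsCyclic.exists_generator (α := U)
  set t := Nat.card U / s with ht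
  have hts : t * s = Nat.card U := Nat.div_mul_cancel (hsN.trans hdvd)
  have hord : orderOf (g ^ t) = s := by
    have hgo : orderOf g = Nat.card U := orderOf_eq_card_of_forall_mem_zpowers hg
    have htpos : 0 < t := Nat.pos_of_ne_zero fun h0 => by
      rw [h0, zero_mul] at hts
      exact Nat.card_pos.ne' hts.symm
    rw [orderOf_pow, hgo, ← hts, Nat.gcd_mul_right_left, Nat.mul_div_cancel_left _ htpos]
  have hroot : ∀ u : U, u ^ s = 1 → ∃ n : ℕ, (g ^ t) ^ n = u := fun u hu => by
    have : (powMonoidHom s : U →* U).ker = Subgroup.zpowers (g ^ t) := by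
      refine (Subgroup.eq_of_le_of_card_ge ?_ (le_of_eq ?_)).symm
      · rw [Subgroup.zpowers_le, MonoidHom.mem_ker, powMonoidHom_apply, ← hord]
        exact pow_orderOf_eq_one _
      · rw [IsCyclic.card_powMonoidHom_ker, Nat.card_zpowers, hord,
          Nat.gcd_eq_right (hsN.trans hdvd)]
    have hm : u ∈ Subgroup.zpowers (g ^ t) := this ▸ (MonoidHom.mem_ker.2 hu)
    exact (mem_powers_iff_mem_zpowers.2 hm)
  choose n hn using hroot
  have hpow : ∀ (x : S) (j : Fin l), ((x.1 : Fin l → U) j) ^ s = 1 := fun x j =>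
    congrFun (congrArg (fun z : S => ((z.1 : (powHom (G := U) A).ker) : Fin l → U)) (hexp x)) j
  let vec : S → Fin l → ZMod s := fun x j => (n _ (hpow x j) : ZMod s)
  have hmem : ∀ x, vec x ∈ eigMod P (q : ZMod s) := fun x => by
    rw [mem_eigMod]
    intro k
    have h1 : ∏ j, ((x.1 : Fin l → U) j) ^ A j k = 1 := congrFun x.1.2 k
    have h3 : (g ^ t) ^ (∑ j, A j k * (n _ (hpow x j) : ℤ)) = 1 := by
      rw [← h1]
      induction (Finset.univ : Finset (Fin l)) using Finset.induction_on with
      | empty => simp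
      | insert a b ha ih =>
        rw [Finset.sum_insert ha, Finset.prod_insert ha, _root_.zpow_add, ih, mul_comm (A a k), _root_.zpow_mul,
          zpow_natCast, hn _ (hpow x a)]
    rw [← orderOf_dvd_iff_zpow_eq_one, hord, ← ZMod.intCast_zmod_eq_zero_iff_dvd] at h3
    push_cast at h3
    simp only [hA, Matrix.sub_apply, Matrix.smul_apply, Matrix.one_apply, smul_eq_mul, mul_ite, mul_one,
      mul_zero, Int.cast_sub, sub_mul, Finset.sum_sub_distrib] at h3
    rw [sub_eq_zero] at h3
    refine h3.symm.trans ?_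
    rw [Finset.sum_eq_single k (fun j _ hj => by simp [hj]) (by simp)]
    simp [vec]
  have hinj : Function.Injective fun x : S => (⟨vec x, hmem x⟩ : eigMod P (q : ZMod s)) := by
    intro x y e
    refine Subtype.ext (Subtype.ext (funext fun j => ?_))
    have h1 := congrFun (congrArg Subtype.val e) j
    simp only [vec, ZMod.natCast_eq_natCast_iff] at h1
    rw [← hn _ (hpow x j), ← hn _ (hpow y j), pow_eq_pow_iff_modEq, hord]
    exact h1
  refine (Nat.card_le_card_of_injective _ hinj).trans ?_
  rw [Module.natCard_eq_pow_finrank (K := ZMod s), Nat.card_zmod]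
  refine (Nat.pow_le_pow_right hs.pos ?_).trans_eq (pow_one s)
  refine (finrank_eigMod_le _ _).trans ?_
  haveI : NeZero (h : ZMod s) := ⟨fun h0 => hsh ((ZMod.natCast_eq_zero_iff h s).1 h0)⟩
  rw [hP, map_cyclotomic]
  exact rootMultiplicity_le_one_of_separable
    (PerfectField.separable_iff_squarefree.2 (squarefree_cyclotomic h (ZMod s))) _

end Cfsg.Agent.CycTori
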