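import Cfsg.Agent.LieTori.RootMatrix
import Cfsg.Agent.ChevGrp.Bruhat

/-!
Linear functions on the roots modulo a prime `r`: small lifts, regularity of eigenfunctions of a cyclic Weyl
element, and triviality of their stabilisers (owner: helper87).
-/

set_option autoImplicit false

namespace Cfsg.Agent.CycTori

open Cfsg.Lie Cfsg.Agent.ChevGrp Cfsg.Agent.LieTori
open Matrix hiding col

variable {D : ChevalleyDatum} {len : ℕ → ℕ}

/-- The value of an integer functional at a root. -/
def val (D : ChevalleyDatum) (f : Fin D.rank → ℤ) (s : ℕ) : ℤ := f ⬝ᵥ col D s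

/-- The value of a functional modulo `r` at a root. -/
def valMod (D : ChevalleyDatum) {r : ℕ} (x : Fin D.rank → ZMod r) (s : ℕ) : ZMod r :=
  ∑ j : Fin D.rank, x j * ((D.cartan j s : ℤ) : ZMod r)

/-- The coefficients of a root on the fundamental roots, for an inverse `B` of the Cartan matrix. -/
def coefAt (D : ChevalleyDatum) (B : Matrix (Fin D.rank) (Fin D.rank) ℤ) (s : ℕ) : Fin D.rank → ℤ :=
  B *ᵥ col D s

/-- A unimodular Cartan matrix with a highest root all of whose coefficients lie between 2 and 6. -/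
structure TopData (D : ChevalleyDatum) (B : Matrix (Fin D.rank) (Fin D.rank) ℤ) (top : ℕ) : Prop where
  mul_inv : cartanMat D * B = 1
  inv_mul : B * cartanMat D = 1
  top_lt : top < D.nroots
  two_le : ∀ i, 2 ≤ coefAt D B top i
  le_six : ∀ i, coefAt D B top i ≤ 6
  le_top : ∀ s < D.nroots, ∀ i, |coefAt D B s i| ≤ coefAt D B top i
  sign : ∀ s < D.nroots, (∀ i, 0 ≤ coefAt D B s i) ∨ (∀ i, coefAt D B s i ≤ 0)

variable {B : Matrix (Fin D.rank) (Fin D.rank) ℤ} {top : ℕ}

theorem cast_val {r : ℕ} (f : Fin D.rank → ℤ) (s : ℕ) :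
    ((val D f s : ℤ) : ZMod r) = valMod D (fun j => (f j : ZMod r)) s := by
  simp [val, valMod, col, dotProduct]

theorem val_wMat (hR : RootTable D len) (f : Fin D.rank → ℤ) (w : List (Fin D.rank)) {s : ℕ}
    (hs : s < D.nroots) : val D (f ᵥ* wMat (cartanMat D) w) s = val D f (act D w s) := by
  rw [val, val, col_act hR w hs, Matrix.dotProduct_mulVec]

theorem val_reflect (hR : RootTable D len) (f : Fin D.rank → ℤ) {i : ℕ} (hi : i < D.rank) {s : ℕ}
    (hs : s < D.nroots) :
    val D f (D.reflectRoot i s) = val D f s - D.cartan i s * val D f (D.simple i) := by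
  simp only [val, dotProduct, col, Finset.mul_sum, ← Finset.sum_sub_distrib]
  refine Finset.sum_congr rfl fun j _ => ?_
  rw [hR.cartan_reflect j.2 hi hs]
  ring

theorem val_simple (f : Fin D.rank → ℤ) (i : Fin D.rank) :
    val D f (D.simple i) = (f ᵥ* cartanMat D) i := rfl

theorem val_eq_sum (hT : TopData D B top) (f : Fin D.rank → ℤ) (s : ℕ) :
    val D f s = ∑ i : Fin D.rank, val D f (D.simple i) * coefAt D B s i := by
  have h : col D s = cartanMat D *ᵥ coefAt D B s := by
    rw [coefAt, Matrix.mulVec_mulVec, hT.mul_inv, Matrix.one_mulVec]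
  rw [val, h, Matrix.dotProduct_mulVec]
  rfl

theorem coefAt_simple (hT : TopData D B top) (i : Fin D.rank) :
    coefAt D B (D.simple i) = Pi.single i 1 := by
  funext j
  rw [coefAt, Pi.single_apply, show (B *ᵥ col D (D.simple i)) j = (B * cartanMat D) j i from rfl, hT.inv_mul,
    Matrix.one_apply]

theorem val_neg (hR : RootTable D len) (f : Fin D.rank → ℤ) {s : ℕ} (hs : s < D.nroots) :
    val D f (D.neg s) = -val D f s := by
  simp only [val, dotProduct, col, ← Finset.sum_neg_distrib]
  refine Finset.sum_congr rfl fun j _ => ?_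
  rw [hR.cartan_neg j.2 hs]
  ring

theorem cartan_reflect_self (hR : RootTable D len) {i : ℕ} (hi : i < D.rank) {s : ℕ} (hs : s < D.nroots) :
    D.cartan i (D.reflectRoot i s) = -D.cartan i s := by
  rw [hR.cartan_reflect hi hi hs, hR.cartan_self i hi]
  ring

theorem sum_reflect (hR : RootTable D len) {i : ℕ} (hi : i < D.rank) (F : ℕ → ℤ) :
    ∑ s ∈ Finset.range D.nroots, F (D.reflectRoot i s) = ∑ s ∈ Finset.range D.nroots, F s := by
  refine Finset.sum_nbij' (D.reflectRoot i) (D.reflectRoot i) ?_ ?_ ?_ ?_ (fun _ _ => rfl)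
  · exact fun s hs => Finset.mem_range.2 (hR.reflect_lt i hi s (Finset.mem_range.1 hs))
  · exact fun s hs => Finset.mem_range.2 (hR.reflect_lt i hi s (Finset.mem_range.1 hs))
  · exact fun s hs => hR.reflect_reflect hi (Finset.mem_range.1 hs)
  · exact fun s hs => hR.reflect_reflect hi (Finset.mem_range.1 hs)

theorem two_mul_sum_cartan (hR : RootTable D len) {i : ℕ} (hi : i < D.rank) (F : ℕ → ℤ) (a : ℤ)
    (hF : ∀ s < D.nroots, F (D.reflectRoot i s) = F s - D.cartan i s * a) :
    2 * ∑ s ∈ Finset.range D.nroots, F s * D.cartan i s =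
      a * ∑ s ∈ Finset.range D.nroots, D.cartan i s ^ 2 := by
  have h1 : ∑ s ∈ Finset.range D.nroots, F s * D.cartan i s =
      ∑ s ∈ Finset.range D.nroots, (a * D.cartan i s ^ 2 - F s * D.cartan i s) := by
    refine (sum_reflect hR hi fun s => F s * D.cartan i s).symm.trans (Finset.sum_congr rfl fun s hs => ?_)
    rw [hF s (Finset.mem_range.1 hs), cartan_reflect_self hR hi (Finset.mem_range.1 hs)]
    ring
  rw [Finset.sum_sub_distrib, ← Finset.mul_sum] at h1
  linarith

theorem sum_cartan_sq_pos (hR : RootTable D len) {i : ℕ} (hi : i < D.rank) :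
    0 < ∑ s ∈ Finset.range D.nroots, D.cartan i s ^ 2 :=
  Finset.sum_pos' (fun _ _ => sq_nonneg _)
    ⟨D.simple i, Finset.mem_range.2 (hR.simple_lt i hi), by rw [hR.cartan_self i hi]; norm_num⟩

theorem wMat_append (A : Matrix (Fin D.rank) (Fin D.rank) ℤ) (u w : List (Fin D.rank)) :
    wMat A (u ++ w) = wMat A u * wMat A w := by simp [wMat]

theorem wMat_eq_one (hR : RootTable D len) (hT : TopData D B top) {w : List (Fin D.rank)}
    (h : ∀ s < D.nroots, act D w s = s) : wMat (cartanMat D) w = 1 := by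
  have h1 : wMat (cartanMat D) w * cartanMat D = cartanMat D := by
    ext j k
    have hk := hR.simple_lt k k.2
    have h2 := congrFun (col_act hR w hk) j
    rw [h _ hk] at h2
    exact h2.symm
  have h3 := congrArg (· * B) h1
  simpa [Matrix.mul_assoc, hT.mul_inv] using h3

theorem wMat_reverse_mul (hR : RootTable D len) (hT : TopData D B top) (w : List (Fin D.rank)) :
    wMat (cartanMat D) w * wMat (cartanMat D) w.reverse = 1 := by
  rw [← wMat_append]
  exact wMat_eq_one hR hT fun s hs => by rw [act_append, hR.act_act_reverse w hs]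

theorem col_ne_zero (hR : RootTable D len) (hT : TopData D B top) {s : ℕ} (hs : s < D.nroots) : col D s ≠ 0 := by
  obtain ⟨w, k, rfl⟩ := hR.exists_act_simple hs
  intro h
  have h1 : col D (D.simple k) = 0 := by
    rw [← hR.act_reverse_act w (hR.simple_lt k k.2), col_act hR _ hs, h, Matrix.mulVec_zero]
  have h2 : D.cartan k (D.simple k) = 0 := congrFun h1 k
  rw [hR.cartan_self k k.2] at h2
  exact absurd h2 (by norm_num)

/-- The sum of the squares of the values at the roots. -/
def energy (D : ChevalleyDatum) (f : Fin D.rank → ℤ) : ℤ :=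
  ∑ s ∈ Finset.range D.nroots, val D f s ^ 2

theorem energy_wMat (hR : RootTable D len) (f : Fin D.rank → ℤ) (w : List (Fin D.rank)) :
    energy D (f ᵥ* wMat (cartanMat D) w) = energy D f := by
  refine Finset.sum_nbij' (act D w) (act D w.reverse) ?_ ?_ ?_ ?_ ?_
  · exact fun s hs => Finset.mem_range.2 (hR.act_lt w (Finset.mem_range.1 hs))
  · exact fun s hs => Finset.mem_range.2 (hR.act_lt _ (Finset.mem_range.1 hs))
  · exact fun s hs => hR.act_reverse_act w (Finset.mem_range.1 hs)
  · exact fun s hs => hR.act_act_reverse w (Finset.mem_range.1 hs)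
  · intro s hs
    rw [val_wMat hR f w (Finset.mem_range.1 hs)]

theorem energy_add_single (hR : RootTable D len) (g : Fin D.rank → ℤ) (k : Fin D.rank) (a : ℤ) :
    energy D (g + Pi.single k a) = energy D g +
      a * (val D g (D.simple k) + a) * ∑ s ∈ Finset.range D.nroots, D.cartan k s ^ 2 := by
  have h := two_mul_sum_cartan hR k.2 (val D g) (val D g (D.simple k)) fun s hs => val_reflect hR g k.2 hs
  have e : ∀ s, val D (g + Pi.single k a) s = val D g s + a * D.cartan k s := fun s => by
    simp [val, add_dotProduct, col]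
  have h2 : energy D (g + Pi.single k a) = energy D g + a * (2 * ∑ s ∈ Finset.range D.nroots, val D g s * D.cartan k s)
      + a ^ 2 * ∑ s ∈ Finset.range D.nroots, D.cartan k s ^ 2 := by
    simp only [energy, e, Finset.mul_sum, ← Finset.sum_add_distrib]
    exact Finset.sum_congr rfl fun s _ => by ring
  rw [h2, h]
  ring

/-- Every functional modulo `r` has a lift with values of absolute value at most `r` at all roots. -/
theorem exists_small_lift (hR : RootTable D len) (hT : TopData D B top) {r : ℕ} (hr : 0 < r)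
    (x : Fin D.rank → ZMod r) :
    ∃ f : Fin D.rank → ℤ, (∀ j, (f j : ZMod r) = x j) ∧ ∀ s < D.nroots, |val D f s| ≤ r := by
  classical
  haveI : NeZero r := ⟨hr.ne'⟩
  have hex : ∃ n, ∃ f : Fin D.rank → ℤ, (∀ j, (f j : ZMod r) = x j) ∧ (energy D f).toNat = n :=
    ⟨_, fun j => ((x j).val : ℤ), fun j => by simp, rfl⟩
  obtain ⟨f, hf, hfn⟩ := Nat.find_spec hex
  refine ⟨f, hf, fun s hs => ?_⟩
  obtain ⟨w, k, rfl⟩ := hR.exists_act_simple hs
  set g := f ᵥ* wMat (cartanMat D) w with hg
  have hgk : val D g (D.simple k) = val D f (act D w (D.simple k)) := val_wMat hR f w (hR.simple_lt k k.2)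
  have hmin : ∀ a : ℤ, (r : ℤ) ∣ a → 0 ≤ a * (val D g (D.simple k) + a) := by
    intro a ha
    have hnn : ∀ f, 0 ≤ energy D f := fun f => Finset.sum_nonneg fun _ _ => sq_nonneg _
    have hcl : ∀ j, (((g + Pi.single k a) ᵥ* wMat (cartanMat D) w.reverse) j : ZMod r) = x j := by
      intro j
      rw [Matrix.add_vecMul, hg, Matrix.vecMul_vecMul, wMat_reverse_mul hR hT, Matrix.vecMul_one, Pi.add_apply,
        Int.cast_add, hf, add_eq_left, ZMod.intCast_zmod_eq_zero_iff_dvd]
      simp only [Matrix.vecMul, dotProduct]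
      refine Finset.dvd_sum fun i _ => Dvd.dvd.mul_right ?_ _
      rw [Pi.single_apply]
      split_ifs
      exacts [ha, dvd_zero _]
    have h1 := Nat.find_min' hex ⟨_, hcl, rfl⟩
    rw [← hfn, energy_wMat hR, energy_add_single hR, hg, energy_wMat hR] at h1
    have h2 : energy D f ≤ energy D f + a * (val D (f ᵥ* wMat (cartanMat D) w) (D.simple k) + a) *
        ∑ s ∈ Finset.range D.nroots, D.cartan k s ^ 2 := by
      have h3 := hnn ((f ᵥ* wMat (cartanMat D) w) + Pi.single k a)
      rw [energy_add_single hR, energy_wMat hR] at h3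
      have h4 := hnn f
      omega
    exact nonneg_of_mul_nonneg_left (by rw [hg]; linarith) (sum_cartan_sq_pos hR k.2)
  rw [← hgk, abs_le]
  have hr' : (0 : ℤ) < r := by exact_mod_cast hr
  constructor
  · have := nonneg_of_mul_nonneg_right (hmin r dvd_rfl) hr'
    linarith
  · have h1 := hmin (-(r : ℤ)) (dvd_neg.2 dvd_rfl)
    nlinarith

/-- Some Weyl translate of a functional is dominant. -/
theorem exists_dominant (hR : RootTable D len) (f : Fin D.rank → ℤ) :
    ∃ v : List (Fin D.rank), ∀ i : Fin D.rank, 0 ≤ val D f (act D v (D.simple i)) := by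
  classical
  let W : Set (Fin D.nroots → Fin D.nroots) :=
    Set.range fun v : List (Fin D.rank) => fun s => ⟨act D v s, hR.act_lt v s.2⟩
  let F : W → ℤ := fun p => ∑ s : Fin D.nroots, ht D len s * val D f (p.1 s : ℕ)
  haveI : Nonempty W := ⟨⟨_, [], rfl⟩⟩
  obtain ⟨⟨p, v, rfl⟩, hmax⟩ := Finite.exists_max F
  refine ⟨v, fun i => ?_⟩
  have h1 := hmax ⟨_, v ++ [i], rfl⟩
  simp only [F] at h1
  rw [Fin.sum_univ_eq_sum_range (fun s => ht D len s * val D f (act D (v ++ [i]) s)),
    Fin.sum_univ_eq_sum_range (fun s => ht D len s * val D f (act D v s))] at h1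
  have hlen : ∀ s < D.nroots, ht D len (D.reflectRoot i s) = ht D len s - D.cartan i s * len (D.simple i) := by
    intro s hs
    simp only [ht, hR.vec_reflect i i.2 s hs, map_sub, map_zsmul, smul_eq_mul, hR.vec_simple]
    simp [htHom]
  have h2 := two_mul_sum_cartan hR i.2 (ht D len) (len (D.simple i)) hlen
  have h3 : ∑ s ∈ Finset.range D.nroots, ht D len s * val D f (act D (v ++ [i]) s) =
      ∑ s ∈ Finset.range D.nroots, ht D len s * val D f (act D v s) -
        val D f (act D v (D.simple i)) * ∑ s ∈ Finset.range D.nroots, ht D len s * D.cartan i s := by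
    rw [Finset.mul_sum, ← Finset.sum_sub_distrib]
    refine Finset.sum_congr rfl fun s hs => ?_
    rw [act_append, act_singleton, ← val_wMat hR f v (hR.reflect_lt i i.2 s (Finset.mem_range.1 hs)),
      ← val_wMat hR f v (Finset.mem_range.1 hs), ← val_wMat hR f v (hR.simple_lt i i.2),
      val_reflect hR _ i.2 (Finset.mem_range.1 hs)]
    ring
  have h4 : 0 < (len (D.simple i) : ℤ) * ∑ s ∈ Finset.range D.nroots, D.cartan i s ^ 2 :=
    mul_pos (by exact_mod_cast hR.len_pos (hR.simple_lt i i.2)) (sum_cartan_sq_pos hR i.2)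
  rw [← h2] at h4
  refine nonneg_of_mul_nonneg_left (b := ∑ s ∈ Finset.range D.nroots, ht D len s * D.cartan i s) ?_ (by linarith)
  linarith

theorem abs_val_le_top (hT : TopData D B top) {g : Fin D.rank → ℤ}
    (hg : ∀ i : Fin D.rank, 0 ≤ val D g (D.simple i)) {s : ℕ} (hs : s < D.nroots) :
    |val D g s| ≤ val D g top := by
  rw [val_eq_sum hT g s, val_eq_sum hT g top]
  refine (Finset.abs_sum_le_sum_abs _ _).trans (Finset.sum_le_sum fun i _ => ?_)
  rw [abs_mul, abs_of_nonneg (hg i)]
  exact mul_le_mul_of_nonneg_left (hT.le_top s hs i) (hg i)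

theorem abs_val_le (hR : RootTable D len) (hT : TopData D B top) {f : Fin D.rank → ℤ}
    {v : List (Fin D.rank)} (hv : ∀ i : Fin D.rank, 0 ≤ val D f (act D v (D.simple i))) {s : ℕ}
    (hs : s < D.nroots) : |val D f s| ≤ val D f (act D v top) := by
  have h := abs_val_le_top hT (g := f ᵥ* wMat (cartanMat D) v)
    (fun i => by rw [val_wMat hR f v (hR.simple_lt i i.2)]; exact hv i) (hR.act_lt v.reverse hs)
  rwa [val_wMat hR f v (hR.act_lt v.reverse hs), hR.act_act_reverse v hs, val_wMat hR f v hT.top_lt] at h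

theorem eq_zero_or_abs_eq {r : ℕ} {a : ℤ} (hd : (a : ZMod r) = 0) (ha : |a| ≤ r) : a = 0 ∨ |a| = r := by
  rw [ZMod.intCast_zmod_eq_zero_iff_dvd] at hd
  rcases eq_or_ne a 0 with h | h
  · exact Or.inl h
  · exact Or.inr (le_antisymm ha (Int.le_of_dvd (abs_pos.2 h) ((dvd_abs _ _).2 hd)))

/-- The functions vanishing modulo `r` at a root lie in a hyperplane. -/
theorem exists_annihilator (hR : RootTable D len) (hT : TopData D B top) {r : ℕ} (hr : r.Prime) (h6 : 6 < r)
    {x : Fin D.rank → ZMod r} (hx : x ≠ 0) :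
    ∃ K : Fin D.rank → ℤ, K ≠ 0 ∧ ∀ s < D.nroots, valMod D x s = 0 → val D K s = 0 := by
  obtain ⟨f, hf, hsmall⟩ := exists_small_lift hR hT hr.pos x
  have hfx : x = fun j => (f j : ZMod r) := funext fun j => (hf j).symm
  have hzero : ∀ s, valMod D x s = 0 → ((val D f s : ℤ) : ZMod r) = 0 := fun s h => by
    rw [cast_val, ← hfx, h]
  obtain ⟨v, hv⟩ := exists_dominant hR f
  rcases (le_abs_self _).trans (hsmall _ (hR.act_lt v hT.top_lt)) |>.lt_or_eq with hlt | heq
  · refine ⟨f, fun h0 => hx (hfx.trans (funext fun j => by simp [h0])), fun s hs h => ?_⟩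
    rcases eq_zero_or_abs_eq (hzero s h) (hsmall s hs) with h' | h'
    · exact h'
    · exact absurd ((abs_val_le hR hT hv hs).trans_lt hlt) (by rw [h']; exact lt_irrefl _)
  set g := f ᵥ* wMat (cartanMat D) v with hgdef
  have hg : ∀ i : Fin D.rank, 0 ≤ val D g (D.simple i) := fun i => by
    rw [hgdef, val_wMat hR f v (hR.simple_lt i i.2)]; exact hv i
  have hgtop : ∑ i : Fin D.rank, val D g (D.simple i) * coefAt D B top i = r := by
    rw [← val_eq_sum hT g top, hgdef, val_wMat hR f v hT.top_lt, heq]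
  obtain ⟨i, hi⟩ : ∃ i : Fin D.rank, val D g (D.simple i) ≠ 0 := by
    by_contra hc
    push Not at hc
    simp [hc] at hgtop
    exact hr.ne_zero (by exact_mod_cast hgtop.symm)
  obtain ⟨j, hij, hj⟩ : ∃ j : Fin D.rank, j ≠ i ∧ val D g (D.simple j) ≠ 0 := by
    by_contra hc
    push Not at hc
    rw [Finset.sum_eq_single i (fun j _ hj => by rw [hc j hj, zero_mul]) (by simp)] at hgtop
    have hd : coefAt D B top i ∣ (r : ℤ) := ⟨_, by rw [← hgtop, mul_comm]⟩
    have h2 := hT.two_le i
    have h3 := hT.le_six i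
    obtain ⟨n, hn⟩ := Int.eq_ofNat_of_zero_le (show (0 : ℤ) ≤ coefAt D B top i by omega)
    rw [hn, Int.natCast_dvd_natCast] at hd
    rcases hr.eq_one_or_self_of_dvd n hd with h4 | h4 <;> omega
  refine ⟨(coefAt D B top j • B i - coefAt D B top i • B j) ᵥ* wMat (cartanMat D) v.reverse, ?_, ?_⟩
  · intro h0
    have h1 := val_wMat hR (coefAt D B top j • B i - coefAt D B top i • B j) v.reverse
      (hR.act_lt v (hR.simple_lt i i.2))
    rw [h0, hR.act_reverse_act v (hR.simple_lt i i.2)] at h1
    have h2 : val D (coefAt D B top j • B i - coefAt D B top i • B j) (D.simple i) =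
        coefAt D B top j * coefAt D B (D.simple i) i - coefAt D B top i * coefAt D B (D.simple i) j := by
      simp only [val, sub_dotProduct, smul_dotProduct, smul_eq_mul]
      rfl
    rw [h2, coefAt_simple hT] at h1
    have h5 := hT.two_le j
    simp [val, Pi.single_eq_of_ne hij] at h1
    omega
  · intro s hs h
    rw [val_wMat hR _ v.reverse hs]
    set t := act D v.reverse s with ht
    have htlt : t < D.nroots := hR.act_lt _ hs
    have h2 : val D (coefAt D B top j • B i - coefAt D B top i • B j) t =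
        coefAt D B top j * coefAt D B t i - coefAt D B top i * coefAt D B t j := by
      simp only [val, sub_dotProduct, smul_dotProduct, smul_eq_mul]
      rfl
    rw [h2]
    have hgt : val D g t = val D f s := by
      rw [hgdef, val_wMat hR f v htlt, ht, hR.act_act_reverse v hs]
    have hgs := val_eq_sum hT g t
    have key : ∀ k : Fin D.rank, val D g (D.simple k) ≠ 0 → ∀ ε : ℤ, (ε = 0 ∨ ε = 1 ∨ ε = -1) →
        val D g t = ε * r → coefAt D B t k = ε * coefAt D B top k := by
      intro k hk ε hε he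
      rw [hgs] at he
      have hgk : 0 < val D g (D.simple k) := lt_of_le_of_ne (hg k) (Ne.symm hk)
      rcases hε with rfl | rfl | rfl
      · rw [zero_mul] at he ⊢
        rcases hT.sign t htlt with hp | hn
        · exact (mul_eq_zero.1 ((Finset.sum_eq_zero_iff_of_nonneg
            (fun m _ => mul_nonneg (hg m) (hp m))).1 he k (Finset.mem_univ k))).resolve_left hk
        · exact (mul_eq_zero.1 ((Finset.sum_eq_zero_iff_of_nonpos
            (fun m _ => mul_nonpos_of_nonneg_of_nonpos (hg m) (hn m))).1 he k (Finset.mem_univ k))).resolve_left hk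
      · have h0 : ∑ m : Fin D.rank, val D g (D.simple m) * (coefAt D B top m - coefAt D B t m) = 0 := by
          simp only [mul_sub, Finset.sum_sub_distrib, hgtop, he]
          ring
        have h1 := (Finset.sum_eq_zero_iff_of_nonneg (fun m _ => mul_nonneg (hg m)
          (sub_nonneg.2 (abs_le.1 (hT.le_top t htlt m)).2))).1 h0 k (Finset.mem_univ k)
        have := (mul_eq_zero.1 h1).resolve_left hk
        linarith
      · have h0 : ∑ m : Fin D.rank, val D g (D.simple m) * (coefAt D B top m + coefAt D B t m) = 0 := by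
          simp only [mul_add, Finset.sum_add_distrib, hgtop, he]
          ring
        have h1 := (Finset.sum_eq_zero_iff_of_nonneg (fun m _ => mul_nonneg (hg m)
          (by linarith [(abs_le.1 (hT.le_top t htlt m)).1]))).1 h0 k (Finset.mem_univ k)
        have := (mul_eq_zero.1 h1).resolve_left hk
        linarith
    obtain ⟨ε, hε, he⟩ : ∃ ε : ℤ, (ε = 0 ∨ ε = 1 ∨ ε = -1) ∧ val D g t = ε * r := by
      rw [hgt]
      rcases eq_zero_or_abs_eq (hzero s h) (hsmall s hs) with h' | h'
      · exact ⟨0, Or.inl rfl, by rw [h', zero_mul]⟩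
      · rcases (abs_eq (Int.natCast_nonneg r)).1 h' with h'' | h''
        · exact ⟨1, Or.inr (Or.inl rfl), by rw [h'', one_mul]⟩
        · exact ⟨-1, Or.inr (Or.inr rfl), by rw [h'', neg_one_mul]⟩
    rw [key i hi ε hε he, key j hj ε hε he]
    ring

/-- An eigenfunction modulo `r` of a Weyl element without invariant subspaces vanishes at no root. -/
theorem valMod_ne_zero (hR : RootTable D len) (hT : TopData D B top) {r : ℕ} (hr : r.Prime) (h6 : 6 < r)
    {x : Fin D.rank → ZMod r} (hx : x ≠ 0) {w : List (Fin D.rank)} {ζ : ZMod r}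
    (hw : ∀ s < D.nroots, valMod D x (act D w s) = ζ * valMod D x s)
    (hcyc : ∀ k v : Fin D.rank → ℤ, v ≠ 0 → (∀ i : ℕ, k ⬝ᵥ (wMat (cartanMat D) w ^ i *ᵥ v) = 0) → k = 0)
    {s : ℕ} (hs : s < D.nroots) : valMod D x s ≠ 0 := by
  intro h
  obtain ⟨K, hK, hKs⟩ := exists_annihilator hR hT hr h6 hx
  refine hK (hcyc K (col D s) (col_ne_zero hR hT hs) fun i => ?_)
  rw [← wMat_pow, ← col_act hR _ hs]
  refine hKs _ (hR.act_lt _ hs) ?_
  induction i with
  | zero => simpa [act_nil] using h
  | succ i ih => rw [List.replicate_succ, List.flatten_cons, act_append, hw _ (hR.act_lt _ hs), ih, mul_zero]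

theorem val_pos_of_pos (hR : RootTable D len) {g : Fin D.rank → ℤ}
    (hg : ∀ i : Fin D.rank, 0 < val D g (D.simple i)) {s : ℕ} (hs : D.IsPosRoot s) : 0 < val D g s := by
  have hp := (hR.isPosRoot_iff s hs.1).1 hs
  have h6 : 6 * val D g s = ∑ i : Fin D.rank,
      vec D len s i * ((6 / len (D.simple i) : ℕ) : ℤ) * val D g (D.simple i) := by
    simp only [val, dotProduct, col, Finset.mul_sum]
    rw [Finset.sum_comm]
    refine Finset.sum_congr rfl fun j _ => ?_
    rw [mul_left_comm, hR.cartan_vec j j.2 s hs.1, Finset.mul_sum]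
    exact Finset.sum_congr rfl fun i _ => by ring
  have hd : ∀ i : Fin D.rank, (0 : ℤ) < ((6 / len (D.simple i) : ℕ) : ℤ) := fun i => by
    have h1 := hR.len_dvd _ (hR.simple_lt i i.2)
    exact_mod_cast Nat.div_pos (Nat.le_of_dvd (by norm_num) h1) (hR.len_pos (hR.simple_lt i i.2))
  obtain ⟨i, hi⟩ : ∃ i, vec D len s i ≠ 0 := by
    by_contra hc
    push Not at hc
    exact hR.vec_ne_zero s hs.1 (funext hc)
  have h1 : (0 : ℤ) < ∑ i : Fin D.rank, vec D len s i * ((6 / len (D.simple i) : ℕ) : ℤ) * val D g (D.simple i) :=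
    Finset.sum_pos' (fun k _ => mul_nonneg (mul_nonneg (hp k) (hd k).le) (hg k).le)
      ⟨i, Finset.mem_univ i, mul_pos (mul_pos (lt_of_le_of_ne (hp i) (Ne.symm hi)) (hd i)) (hg i)⟩
  linarith

theorem act_eq_self_of_pos {F : Type*} [Field F] (hS : Rules D F) (hR : RootTable D len)
    {u : List (Fin D.rank)} (h : ∀ s, D.IsPosRoot s → D.IsPosRoot (act D u s)) :
    ∀ s < D.nroots, act D u s = s := by
  have hn := (glSys hS).nW_mem_Hbar_of_act hS hR h
  have e := (glSys hS).act_eq_of_eq hS hR (w := u) (v := []) (one_mem _) hn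
    (by rw [one_mul, Sys.nW_nil, mul_one])
  intro s hs
  rw [e s hs, act_nil]

/-- A functional modulo `r` vanishing at no root is fixed by no nontrivial Weyl group element. -/
theorem act_eq_self {F : Type*} [Field F] (hS : Rules D F) (hR : RootTable D len) (hT : TopData D B top) {r : ℕ}
    (hr : 0 < r) {x : Fin D.rank → ZMod r} (hreg : ∀ s < D.nroots, valMod D x s ≠ 0)
    {u : List (Fin D.rank)} (hu : ∀ s < D.nroots, valMod D x (act D u s) = valMod D x s) :
    ∀ s < D.nroots, act D u s = s := by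
  obtain ⟨f, hf, hle⟩ := exists_small_lift hR hT hr x
  have hfx : x = fun j => (f j : ZMod r) := funext fun j => (hf j).symm
  have hlt : ∀ s < D.nroots, |val D f s| < r := fun s hs =>
    lt_of_le_of_ne (hle s hs) fun e => hreg s hs (by
      rw [hfx, ← cast_val, ZMod.intCast_zmod_eq_zero_iff_dvd, ← dvd_abs, e])
  have hne : ∀ s < D.nroots, val D f s ≠ 0 := fun s hs e => hreg s hs (by rw [hfx, ← cast_val, e, Int.cast_zero])
  have hdvd : ∀ s < D.nroots, (r : ℤ) ∣ val D (f ᵥ* wMat (cartanMat D) u - f) s := fun s hs => by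
    rw [val, sub_dotProduct, ← ZMod.intCast_zmod_eq_zero_iff_dvd, Int.cast_sub]
    show ((val D (f ᵥ* wMat (cartanMat D) u) s : ℤ) : ZMod r) - ((val D f s : ℤ) : ZMod r) = 0
    rw [val_wMat hR f u hs, cast_val, cast_val, ← hfx, hu s hs, sub_self]
  choose t0 ht0 using fun i : Fin D.rank => hdvd _ (hR.simple_lt i i.2)
  set t := t0 ᵥ* B with htdef
  have htsim : ∀ i : Fin D.rank, val D t (D.simple i) = t0 i := fun i => by
    rw [val_simple, htdef, Matrix.vecMul_vecMul, hT.inv_mul, Matrix.vecMul_one]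
  have hts : ∀ s < D.nroots, val D f (act D u s) - val D f s = r * val D t s := fun s hs => by
    have h1 : val D (f ᵥ* wMat (cartanMat D) u - f) s = val D f (act D u s) - val D f s := by
      rw [val, sub_dotProduct]; exact congrArg₂ (· - ·) (val_wMat hR f u hs) rfl
    rw [← h1, val_eq_sum hT _ s, val_eq_sum hT t s, Finset.mul_sum]
    refine Finset.sum_congr rfl fun i _ => ?_
    rw [ht0 i, htsim i, mul_assoc]
  have habs : ∀ s < D.nroots, |val D t s| ≤ 1 := fun s hs => by
    have h1 := abs_sub (val D f (act D u s)) (val D f s)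
    rw [hts s hs, abs_mul, abs_of_nonneg (Int.natCast_nonneg r)] at h1
    have h2 : (r : ℤ) * |val D t s| < r * 2 := by
      linarith [hlt _ (hR.act_lt u hs), hlt s hs]
    have := lt_of_mul_lt_mul_left h2 (Int.natCast_nonneg r)
    omega
  obtain ⟨v₀, hv₀⟩ := exists_dominant hR t
  have htz : ∀ s < D.nroots, val D t s = 0 := by
    have h0 : ∀ i : Fin D.rank, val D (t ᵥ* wMat (cartanMat D) v₀) (D.simple i) = 0 := by
      intro i
      have hg : ∀ k : Fin D.rank, 0 ≤ val D (t ᵥ* wMat (cartanMat D) v₀) (D.simple k) := fun k => by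
        rw [val_wMat hR t v₀ (hR.simple_lt k k.2)]; exact hv₀ k
      have h1 := (le_abs_self _).trans (habs _ (hR.act_lt v₀ hT.top_lt))
      rw [← val_wMat hR t v₀ hT.top_lt, val_eq_sum hT] at h1
      have h2 := Finset.single_le_sum
        (f := fun k : Fin D.rank => val D (t ᵥ* wMat (cartanMat D) v₀) (D.simple k) * coefAt D B top k)
        (fun k _ => mul_nonneg (hg k) (by linarith [hT.two_le k])) (Finset.mem_univ i)
      have h3 := hg i
      have h4 := mul_le_mul_of_nonneg_left (hT.two_le i) h3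
      omega
    intro s hs
    have h1 := val_eq_sum hT (t ᵥ* wMat (cartanMat D) v₀) (act D v₀.reverse s)
    simp only [h0, zero_mul, Finset.sum_const_zero] at h1
    rwa [val_wMat hR t v₀ (hR.act_lt _ hs), hR.act_act_reverse v₀ hs] at h1
  have hfix : ∀ s < D.nroots, val D f (act D u s) = val D f s := fun s hs => by
    have := hts s hs
    rw [htz s hs, mul_zero] at this
    linarith
  obtain ⟨v, hv⟩ := exists_dominant hR f
  have hg : ∀ i : Fin D.rank, 0 < val D (f ᵥ* wMat (cartanMat D) v) (D.simple i) := fun i => by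
    rw [val_wMat hR f v (hR.simple_lt i i.2)]
    exact lt_of_le_of_ne (hv i) (Ne.symm (hne _ (hR.act_lt v (hR.simple_lt i i.2))))
  have hpos : ∀ s, D.IsPosRoot s → D.IsPosRoot (act D (v.reverse ++ (u ++ v)) s) := by
    intro s hs
    have h1 : 0 < val D (f ᵥ* wMat (cartanMat D) v) s := val_pos_of_pos hR hg hs
    have hlt' := hR.act_lt (v.reverse ++ (u ++ v)) hs.1
    have h2 : val D (f ᵥ* wMat (cartanMat D) v) (act D (v.reverse ++ (u ++ v)) s) =
        val D (f ᵥ* wMat (cartanMat D) v) s := by
      rw [val_wMat hR f v hlt', act_append, hR.act_act_reverse v (hR.act_lt _ hs.1), act_append,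
        hfix _ (hR.act_lt v hs.1), val_wMat hR f v hs.1]
    by_contra hc
    have hn := hR.neg_of_not_pos hlt' hc
    have h3 := val_pos_of_pos hR hg ((hR.pos_neg_iff hlt').2 hn)
    rw [val_neg hR _ hlt', h2] at h3
    linarith
  intro s hs
  have h1 := act_eq_self_of_pos hS hR hpos (act D v.reverse s) (hR.act_lt _ hs)
  rw [act_append, act_append, hR.act_act_reverse v hs] at h1
  have h2 := congrArg (act D v) h1
  rwa [hR.act_act_reverse v (hR.act_lt u hs), hR.act_act_reverse v hs] at h2

end Cfsg.Agent.CycTori
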