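import Cfsg.Agent.CycTori.IntKernel
import Cfsg.Agent.CycTori.RootFun
import Cfsg.Agent.LieTori.SylowMain
import Cfsg.Agent.Chev.FieldFix

/-!
A cyclic self-centralizing torus of order `Φ_h(q)` in a Chevalley group with unimodular Cartan matrix, for `h`
with `φ(h)` equal to the rank (owner: helper87).

An element `x` of prime order `r ∣ Φ_h(q)` lies over the field with `q ^ h` elements in the split torus, where it
is regular; the Frobenius map acts on that torus as a Weyl element with characteristic polynomial `Φ_h`, so the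
centralizer of `x` is the kernel of `q - w` on the torus.
-/

set_option autoImplicit false
set_option linter.style.haveILetI false

namespace Cfsg.Agent.CycTori

open Cfsg.Lie Cfsg.Agent.ChevGrp Cfsg.Agent.LieTori Polynomial
open Matrix hiding col
open scoped MatrixGroups

theorem mem_range_of_pow_card {F K : Type*} [Field F] [Fintype F] [Field K] [Algebra F K] {x : K}
    (h : x ^ Fintype.card F = x) : ∃ y : F, algebraMap F K y = x := by
  classical
  have h1 : 1 < Fintype.card F := Fintype.one_lt_card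
  set P : K[X] := X ^ Fintype.card F - X with hP
  have hdeg : P.natDegree = Fintype.card F := FiniteField.X_pow_card_sub_X_natDegree_eq K h1
  have hP0 : P ≠ 0 := FiniteField.X_pow_card_sub_X_ne_zero K h1
  have hsub : Finset.univ.image (algebraMap F K) ⊆ P.roots.toFinset := by
    intro y hy
    obtain ⟨z, -, rfl⟩ := Finset.mem_image.1 hy
    rw [Multiset.mem_toFinset, mem_roots hP0]
    simp [hP, sub_eq_zero, ← map_pow, FiniteField.pow_card]
  have heq := Finset.eq_of_subset_of_card_le hsub <| by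
    rw [Finset.card_image_of_injective _ (algebraMap F K).injective, Finset.card_univ]
    exact ((Multiset.toFinset_card_le _).trans (card_roots' P)).trans_eq hdeg
  have hx : x ∈ P.roots.toFinset := by
    rw [Multiset.mem_toFinset, mem_roots hP0]
    simp [hP, h]
  rw [← heq] at hx
  obtain ⟨y, -, hy⟩ := Finset.mem_image.1 hx
  exact ⟨y, hy⟩

section Torus

variable {D : ChevalleyDatum} {F : Type*} [Field F] {G : Type*} [Group G] (S : Sys D F G) {len : ℕ → ℕ}

theorem tau_conj_x (hS : Rules D F) (hR : RootTable D len) (hM : S.HMul) (c : Fin D.rank → Fˣ) :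
    ∀ s < D.nroots, ∀ t : F, S.tau hS hR hM c * S.x s t * (S.tau hS hR hM c)⁻¹ =
      S.x s (((∏ j : Fin D.rank, c j ^ D.cartan j s : Fˣ) : F) * t) := by
  induction c using Pi.mulSingle_induction with
  | one => intro s _ t; simp
  | mul a b ha hb =>
    intro s hs t
    rw [map_mul, show S.tau hS hR hM a * S.tau hS hR hM b * S.x s t * (S.tau hS hR hM a * S.tau hS hR hM b)⁻¹ =
      S.tau hS hR hM a * (S.tau hS hR hM b * S.x s t * (S.tau hS hR hM b)⁻¹) * (S.tau hS hR hM a)⁻¹ by group,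
      hb s hs, ha s hs]
    simp [Finset.prod_mul_distrib, mul_zpow, mul_assoc]
  | mulSingle i u =>
    intro s hs t
    rw [show S.tau hS hR hM (Pi.mulSingle i u) = S.hEl (D.simple i) u by
        rw [Sys.tau, MonoidHom.noncommPiCoprod_mulSingle]; rfl, S.conjP_hI hS hR i u.ne_zero s hs,
      Finset.prod_eq_single i (fun j _ hj => by simp [Pi.mulSingle_eq_of_ne hj]) (by simp),
      Pi.mulSingle_eq_same, Units.val_zpow_eq_zpow_val]

/-- In the matrix group, an element commuting with a regular torus element with trivial stabiliser is in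
the torus. -/
theorem mem_Hbar_of_commute (hS : Rules D F) (hR : RootTable D len) (hM : S.HMul)
    (hθ : Function.Injective S.θ) {c : Fin D.rank → Fˣ}
    (hreg : ∀ s < D.nroots, (∏ j : Fin D.rank, c j ^ D.cartan j s) ≠ 1)
    (hstab : ∀ u : List (Fin D.rank), (∀ s < D.nroots, ∏ j : Fin D.rank, c j ^ D.cartan j s =
      ∏ j : Fin D.rank, c j ^ D.cartan j (act D u s)) → ∀ s < D.nroots, act D u s = s)
    {z : G} (hz : z ∈ S.Gbar) (hcomm : z * S.tau hS hR hM c = S.tau hS hR hM c * z) : z ∈ S.Hbar := by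
  obtain ⟨b, hb, w, -, v, hv, rfl⟩ := S.mem_NF hS hR hz
  have hy : S.tau hS hR hM c ∈ S.Hbar := by rw [← S.tau_range hS hR hM]; exact ⟨c, rfl⟩
  have e2 := conj_nW_eq S hS hR hM hb hv hy hy hcomm
  have hid : ∀ s < D.nroots, act D w s = s := hstab w fun s hs => root_eq_of_conj S hS hR hM e2 hs
  have hv1 : v = 1 := by
    have he : invSet D w = ∅ := Set.eq_empty_of_forall_notMem fun r hr => by
      have h2 := hr.2
      rw [hid r hr.1.1] at h2
      exact hR.not_pos_and_neg hr.1 h2
    rw [he] at hv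
    simpa [Sys.US] using hv
  subst hv1
  have hn : S.nW w ∈ S.Hbar := S.nW_mem_Hbar_of_act hS hR fun r hr => by rw [hid r hr.1]; exact hr
  rw [mul_one] at hcomm ⊢
  obtain ⟨u, hu, h, hh, e⟩ := (S.mem_Bbar hS hR).1 (mul_mem hb (S.Hbar_le_Bbar hn))
  rw [e] at hcomm ⊢
  have h1 : S.tau hS hR hM c * u * (S.tau hS hR hM c)⁻¹ = u := by
    refine mul_inv_eq_iff_eq_mul.2 (mul_right_cancel (b := h) ?_)
    rw [mul_assoc, ← hcomm, mul_assoc, mul_assoc, S.Hbar_comm hS hR hM _ hy _ hh]
  obtain ⟨L, hL⟩ := hR.posSet_closed.exists_enum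
  obtain ⟨t, rfl⟩ := S.exists_coef hR hR.posSet_closed hL hu
  have hlt : ∀ r ∈ L, r < D.nroots := fun r hr => ((hL.2 r).1 hr).1
  have hP : ∀ L' : List ℕ, (∀ r ∈ L', r < D.nroots) →
      S.tau hS hR hM c * S.P L' t * (S.tau hS hR hM c)⁻¹ =
        S.P L' fun r => ((∏ j : Fin D.rank, c j ^ D.cartan j r : Fˣ) : F) * t r := by
    intro L' hL'
    induction L' with
    | nil => simp [Sys.P_nil]
    | cons r L' ih =>
      rw [S.P_cons, S.P_cons, ← ih (fun a ha => hL' a (List.mem_cons_of_mem _ ha)),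
        ← tau_conj_x S hS hR hM c r (hL' r List.mem_cons_self)]
      group
  rw [hP L hlt] at h1
  have ht0 := S.coef_unique hR hR.posSet_closed hL (congrArg S.θ h1)
  have hu1 : S.P L t = 1 := by
    refine S.P_zero hlt fun r hr => ?_
    have h2 := ht0 r ((hL.2 r).1 hr)
    by_contra h3
    exact hreg r (hlt r hr) (Units.ext (mul_eq_right₀ h3 |>.1 h2))
  rw [hu1, one_mul]
  exact hh

end Torus

theorem map_mem_group {D : ChevalleyDatum} {F E : Type*} [Field F] [Field E] (f : F →+* E) {g : GL D.Idx F}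
    (hg : g ∈ D.group F) : Matrix.GeneralLinearGroup.map (n := D.Idx) f g ∈ D.group E :=
  map_group_le D f ⟨g, hg, rfl⟩

universe u

/-- The centralizer of any element of the prime order `r`. -/
theorem cyclic_centralizer {D : ChevalleyDatum}
    (hD : D ∈ [chevG2, chevB2, chevD4, chevF4, chevE6, chevE7, chevE8])
    {B : Matrix (Fin D.rank) (Fin D.rank) ℤ} {top : ℕ} (hT : TopData D B top)
    (hU : ∃ B : Fin D.rank → Fin D.rank → ℤ, ∀ i j : Fin D.rank,
      ∑ k : Fin D.rank, D.cartan j (D.simple k) * B k i = if j = i then 1 else 0)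
    (hdet : (cartanMat D).det = ((1 : ℕ) : ℤ))
    {L : List ℕ} (hLlen : L.length = D.rank) (hW : WeylOrder D L.prod)
    {h : ℕ} (hh : h ∈ L) (hh0 : 0 < h) (hhl : h.totient = D.rank)
    {F : Type u} [Field F] [Fintype F] {q : ℕ} (hq : Fintype.card F = q)
    (hK : ∀ (K : Type) [Field K] [Fintype K], OrderFormula D L 1 K)
    {N : ℕ} (hNv : (cyclotomic h ℤ).eval (q : ℤ) = (N : ℤ)) (hN : N ≠ 0)
    (hbad : ∀ s : ℕ, s.Prime → s ∣ h → s ∣ N → ¬ s ^ 2 ∣ N)
    (r : ℕ) [Fact r.Prime] (hrN : r ∣ N) (hr6 : 6 < r) (hrh : ¬ r ∣ h) (hrW : ¬ r ∣ L.prod)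
    {x : ↥(D.group F)} (hx : orderOf x = r) :
    IsCyclic ↥(Subgroup.centralizer ({x} : Set ↥(D.group F))) ∧
      Nat.card ↥(Subgroup.centralizer ({x} : Set ↥(D.group F))) = N := by
  classical
  have hr : r.Prime := Fact.out
  have hr2 : r ≠ 2 := by omega
  have hLr : ∀ e ∈ L, ¬ r ∣ e := fun e he hd => hrW (hd.trans (List.dvd_prod he))
  have hq1 : 1 < q := hq ▸ Fintype.one_lt_card
  have hcardF : Nat.card F = q := by rw [Nat.card_eq_fintype_card, hq]
  -- `q` has order `h` modulo `r`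
  have hordq : orderOf (q : ZMod r) = h := by
    haveI : NeZero (h : ZMod r) := ⟨fun h0 => hrh ((ZMod.natCast_eq_zero_iff h r).1 h0)⟩
    have h1 : (cyclotomic h (ZMod r)).IsRoot (q : ZMod r) := by
      have h2 := congrArg (Int.castRingHom (ZMod r)) hNv
      rw [← eval₂_hom, ← eval_map, map_cyclotomic, map_natCast, map_natCast,
        (ZMod.natCast_eq_zero_iff N r).2 hrN] at h2
      exact h2
    exact ((isRoot_cyclotomic_iff.1 h1).eq_orderOf).symm
  have hrq : ¬ r ∣ q := fun hd => by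
    rw [(ZMod.natCast_eq_zero_iff q r).2 hd, orderOf_zero] at hordq
    omega
  have hdvdQ : N ∣ q ^ h - 1 := by
    have h1 : cyclotomic h ℤ ∣ X ^ h - 1 := cyclotomic.dvd_X_pow_sub_one h ℤ
    have h2 := Polynomial.eval_dvd (x := (q : ℤ)) h1
    rw [hNv, eval_sub, eval_pow, eval_X, eval_one, show (q : ℤ) ^ h - 1 = ((q ^ h - 1 : ℕ) : ℤ) by
      rw [Nat.cast_sub (Nat.one_le_pow _ _ (by omega))]; push_cast; rfl] at h2
    exact Int.natCast_dvd_natCast.1 h2
  -- the big field
  haveI : NeZero h := ⟨hh0.ne'⟩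
  obtain ⟨p, hp⟩ := CharP.exists F
  haveI := Fact.mk (CharP.char_is_prime F p)
  let K := FiniteField.Extension F p h
  haveI : Fintype K := Fintype.ofFinite K
  have hcardK : Nat.card K = q ^ h := by rw [FiniteField.natCard_extension, hcardF]
  have hone : (Nat.card K : ZMod r) = 1 := by rw [hcardK, Nat.cast_pow, ← hordq, pow_orderOf_eq_one]
  set v := padicValNat r (q ^ h - 1) with hv
  have hv0 : v ≠ 0 := by
    have := one_le_padicValNat_of_dvd (p := r)
      (Nat.sub_ne_zero_of_lt (Nat.one_lt_pow hh0.ne' hq1)) (hrN.trans hdvdQ)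
    omega
  have hrQ : ¬ r ∣ Nat.card K := hcardK ▸ SylowLarge.not_dvd_pow hrq h
  have hvK : padicValNat r (Nat.card ↥(D.group K)) = D.rank * v := by
    rw [padicValNat_group (hK K) hr2 hrQ hr.not_dvd_one hLr, hone, orderOf_one, cyclotomic_one, ← hLlen]
    simp only [one_dvd, decide_true, List.filter_true, eval_sub, eval_X, eval_one, hcardK]
    rw [show ((q ^ h : ℕ) : ℤ) - 1 = ((q ^ h - 1 : ℕ) : ℤ) by
      rw [Nat.cast_sub (Nat.one_le_pow _ _ (by omega))]; rfl, Int.natAbs_natCast]
  -- the split torus over `K`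
  have hS : Rules D K := Chev.rules_of_mem K hD
  have hSF : Rules D F := Chev.rules_of_mem F hD
  obtain ⟨len, hR⟩ := hS.root
  let S := glSys hS
  have hM : S.HMul := glSys_HMul hS hR
  have hθ : Function.Injective S.θ := fun _ _ e => e
  have hGK : D.group K = S.Gbar := group_eq hS
  have hHG : S.Hbar ≤ S.Gbar := by
    rw [S.Gbar_eq hR hS]; exact le_sup_of_le_left S.Hbar_le_Bbar
  have htauH : ∀ c, S.tau hS hR hM c ∈ S.Hbar := fun c => by
    rw [← S.tau_range hS hR hM]; exact ⟨c, rfl⟩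
  have htau : ∀ c, S.tau hS hR hM c ∈ D.group K := fun c => hGK ▸ hHG (htauH c)
  have hker : rootKer D K = ⊥ := Chev.FieldFix.rootKer_eq_bot hU
  have hroot_inj : ∀ c c' : Fin D.rank → Kˣ,
      powMap (cartanMat D) c = powMap (cartanMat D) c' → c = c' := by
    intro c c' e
    have h1 : c * c'⁻¹ ∈ rootKer D K := fun k => by
      show powMap (cartanMat D) (c * c'⁻¹) k = 1
      rw [← powHom_apply, map_mul, map_inv, powHom_apply, powHom_apply, e, mul_inv_cancel]
      rfl
    rw [hker, Subgroup.mem_bot, mul_inv_eq_one] at h1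
    exact h1
  have htinj : Function.Injective (S.tau hS hR hM) := by
    rw [injective_iff_map_eq_one]
    intro c hc
    have h1 := (S.θ_tau_eq_one_iff hS hR hM c).1 (congrArg S.θ hc)
    rw [hker, Subgroup.mem_bot] at h1
    exact h1
  have hm : r ^ v ∣ Nat.card K - 1 := by rw [hcardK]; exact pow_padicValNat_dvd
  obtain ⟨f, hf⟩ := SylowLarge.exists_zmod_hom_units hm
  obtain ⟨g, hg⟩ := SylowLarge.exists_zmod_hom_units (K := K) ((dvd_pow_self r hv0).trans hm)
  let φ : (Fin D.rank → Multiplicative (ZMod (r ^ v))) →* ↥(D.group K) :=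
    ((S.tau hS hR hM).comp (f.compLeft (Fin D.rank))).codRestrict _ fun y => htau (f.compLeft (Fin D.rank) y)
  have hφ : Function.Injective φ := fun a b e =>
    hf.comp_left (htinj (congrArg Subtype.val e))
  have hφcard : Nat.card φ.range = r ^ (Nat.card ↥(D.group K)).factorization r := by
    rw [← Nat.card_congr (MonoidHom.ofInjective hφ).toEquiv, SylowLarge.card_pi_zmod,
      Nat.factorization_def _ hr, hvK]
  -- conjugate `x` into it
  let e : GL D.Idx F →* GL D.Idx K := Matrix.GeneralLinearGroup.map (algebraMap F K)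
  have he : Function.Injective e := glMap_injective D (algebraMap F K)
  let ψ : ↥(D.group F) →* ↥(D.group K) :=
    (e.comp (D.group F).subtype).codRestrict _ fun z => map_mem_group (algebraMap F K) z.2
  have hψ : Function.Injective ψ := fun a b hab => Subtype.ext (he (congrArg Subtype.val hab))
  have hP : IsPGroup r (Subgroup.zpowers (ψ x)) :=
    IsPGroup.of_card (n := 1) (by rw [Nat.card_zpowers, orderOf_injective ψ hψ, hx, pow_one])
  obtain ⟨Q, hQ⟩ := hP.exists_le_sylow
  obtain ⟨γ, hγ⟩ := MulAction.exists_smul_eq ↥(D.group K) Q (Sylow.ofCard φ.range hφcard)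
  have hymem : MulAut.conj γ (ψ x) ∈ φ.range := by
    have h1 : MulAut.conj γ (ψ x) ∈ ((γ • Q : Sylow r ↥(D.group K)) : Subgroup ↥(D.group K)) := by
      rw [Sylow.smul_def, Sylow.pointwise_smul_def, ← MulAut.smul_def]
      exact Subgroup.smul_mem_pointwise_smul _ _ _ (hQ (Subgroup.mem_zpowers _))
    rw [hγ] at h1
    exact h1
  obtain ⟨z0, hz0⟩ := hymem
  set c0 : Fin D.rank → Kˣ := f.compLeft (Fin D.rank) z0 with hc0
  set y : GL D.Idx K := S.tau hS hR hM c0 with hy
  have hyx : y = (γ : GL D.Idx K) * e (x : GL D.Idx F) * (γ : GL D.Idx K)⁻¹ := congrArg Subtype.val hz0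
  have hordy : orderOf y = r := by
    have h1 : y = MulAut.conj (γ : GL D.Idx K) (e (x : GL D.Idx F)) := hyx
    rw [h1, MulEquiv.orderOf_eq, orderOf_injective e he, Subgroup.orderOf_coe, hx]
  have hc0r : ∀ j, c0 j ^ r = 1 := fun j => by
    have h1 : c0 ^ r = 1 := htinj (by rw [map_pow, ← hy, ← hordy, pow_orderOf_eq_one, map_one])
    exact congrFun h1 j
  have hroot : ∀ u : Kˣ, u ^ r = 1 → ∃ z, g z = u := fun u hu => by
    have h2 : g.range = (powMonoidHom r : Kˣ →* Kˣ).ker := by
      refine Subgroup.eq_of_le_of_card_ge ?_ (le_of_eq ?_)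
      · rintro _ ⟨z, rfl⟩
        rw [MonoidHom.mem_ker, powMonoidHom_apply, ← map_pow, ← map_one g]
        congr 1
        exact Multiplicative.toAdd.injective (by simp)
      · rw [IsCyclic.card_powMonoidHom_ker, Nat.card_units,
          Nat.gcd_eq_right ((dvd_pow_self r hv0).trans hm), ← Nat.card_congr (MonoidHom.ofInjective hg).toEquiv,
          Nat.card_congr Multiplicative.toAdd, Nat.card_zmod]
    exact MonoidHom.mem_range.1 (h2.ge (MonoidHom.mem_ker.2 hu))
  choose zz hzz using fun j => hroot _ (hc0r j)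
  set xv : Fin D.rank → ZMod r := fun j => Multiplicative.toAdd (zz j) with hxv
  have hchi : ∀ s, ∏ j : Fin D.rank, c0 j ^ D.cartan j s = g (Multiplicative.ofAdd (valMod D xv s)) := fun s => by
    simp_rw [← hzz]
    rw [prod_zpow_hom g (fun j : Fin D.rank => D.cartan j s) zz]
    exact congrArg (fun a => g (Multiplicative.ofAdd a)) (Finset.sum_congr rfl fun j _ => mul_comm _ _)
  have hxv0 : xv ≠ 0 := fun h0 => by
    have h1 : c0 = 1 := funext fun j => by
      rw [← hzz j, show zz j = 1 from toAdd_eq_zero.1 (congrFun h0 j), map_one]; rfl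
    rw [hy, h1, map_one, orderOf_one] at hordy
    omega
  -- the twist by the Frobenius map
  let σ : K →+* K := (FiniteField.Extension.frob F p h).toAlgHom.toRingHom
  have hσ : ∀ a : K, σ a = a ^ q := fun a => by
    show FiniteField.Extension.frob F p h a = _
    rw [FiniteField.Extension.frob_apply, hcardF]
  let fr : GL D.Idx K →* GL D.Idx K := Matrix.GeneralLinearGroup.map σ
  have hfix : ∀ a : GL D.Idx F, fr (e a) = e a := fun a => by
    ext i j
    exact (FiniteField.Extension.frob F p h).commutes _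
  have hfrtau : ∀ c, fr (S.tau hS hR hM c) = S.tau hS hR hM c ^ q := fun c => LieTori.map_tau hS hR σ hσ c
  set Qe : GL D.Idx K := fr (γ : GL D.Idx K) * (γ : GL D.Idx K)⁻¹ with hQe
  have hQG : Qe ∈ S.Gbar := by
    rw [← hGK]
    exact mul_mem (map_mem_group σ γ.2) (inv_mem γ.2)
  have hconj : ∀ z : GL D.Idx F, fr ((γ : GL D.Idx K) * e z * (γ : GL D.Idx K)⁻¹) =
      Qe * ((γ : GL D.Idx K) * e z * (γ : GL D.Idx K)⁻¹) * Qe⁻¹ := fun z => by
    rw [map_mul, map_mul, map_inv, hfix, hQe]
    group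
  have hQy : Qe * y * Qe⁻¹ = y ^ q := by
    rw [← hfrtau c0, ← hy, hyx, hconj]
  obtain ⟨b, hb, w, -, v', hv', hQeq⟩ := S.mem_NF hS hR hQG
  have e1 : b * S.nW w * v' * y = y ^ q * (b * S.nW w * v') := by
    rw [← hQeq]; exact mul_inv_eq_iff_eq_mul.1 hQy
  have e2 : S.nW w * y * (S.nW w)⁻¹ = y ^ q :=
    conj_nW_eq S hS hR hM hb hv' (htauH c0) (pow_mem (htauH c0) q) e1
  have e3 : S.nW w * S.tau hS hR hM c0 * (S.nW w)⁻¹ = S.tau hS hR hM (c0 ^ q) := by
    rw [map_pow]; exact e2
  set w' := w.reverse with hw'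
  have heig : ∀ s < D.nroots, valMod D xv (act D w' s) = (q : ZMod r) * valMod D xv s := by
    intro s hs
    have h1 := root_eq_of_conj S hS hR hM e3 (hR.act_lt w' hs)
    rw [hw', hR.act_act_reverse w hs, hchi] at h1
    simp only [Pi.pow_apply] at h1
    rw [Finset.prod_congr rfl (fun j _ => show (c0 j ^ q) ^ D.cartan j s = (c0 j ^ D.cartan j s) ^ q by
      rw [← zpow_natCast, ← zpow_natCast, zpow_comm]), Finset.prod_pow, hchi, ← map_pow, ← ofAdd_nsmul,
      nsmul_eq_mul] at h1
    exact Multiplicative.ofAdd.injective (hg h1)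
  set A := cartanMat D with hA
  set P := wMat A w' with hPdef
  have hxeig : xv ∈ eigMod P (q : ZMod r) := by
    let A' : Matrix (Fin D.rank) (Fin D.rank) (ZMod r) := A.map (Int.castRingHom (ZMod r))
    let P' : Matrix (Fin D.rank) (Fin D.rank) (ZMod r) := P.map (Int.castRingHom (ZMod r))
    have h0 : (xv ᵥ* P' - (q : ZMod r) • xv) ᵥ* A' = 0 := by
      funext k
      have h1 := heig _ (hR.simple_lt k k.2)
      have hcol : ∀ j : Fin D.rank, D.cartan j (act D w' (D.simple k)) = (P * A) j k := fun j => by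
        have := congrFun (col_act hR w' (hR.simple_lt k k.2)) j
        simpa [col, hPdef, hA, cartanMat, Matrix.mul_apply, Matrix.mulVec, dotProduct] using this
      simp only [valMod, hcol] at h1
      rw [Matrix.sub_vecMul, Matrix.smul_vecMul, Matrix.vecMul_vecMul, Pi.sub_apply, Pi.smul_apply, Pi.zero_apply,
        sub_eq_zero, smul_eq_mul, show P' * A' = (P * A).map (Int.castRingHom (ZMod r)) from
          (Matrix.map_mul (f := Int.castRingHom (ZMod r))).symm]
      simpa [Matrix.vecMul, dotProduct, A', hA, cartanMat] using h1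
    have hdetA : A'.det ≠ 0 := by
      rw [show A'.det = ((A.det : ℤ) : ZMod r) from (RingHom.map_det (Int.castRingHom (ZMod r)) _).symm, hdet]
      simp
    have h2 := sub_eq_zero.1 (Matrix.eq_zero_of_vecMul_eq_zero hdetA h0)
    rw [mem_eigMod]
    intro k
    have h3 := congrFun h2 k
    simp only [Pi.smul_apply, smul_eq_mul, Matrix.vecMul, dotProduct, P', Matrix.map_apply, eq_intCast] at h3
    rw [← h3]
    exact Finset.sum_congr rfl fun j _ => mul_comm _ _
  have hdet0 : (cartanMat D).det ≠ 0 := by rw [hdet]; norm_num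
  have hPchar : P.charpoly = cyclotomic h ℤ :=
    charpoly_eq_cyclotomic (wMat_pow_eq_one hR hW hdet0 w') hrW hh0 hordq hhl hxeig hxv0
  have hreg : ∀ s < D.nroots, valMod D xv s ≠ 0 := fun s hs =>
    valMod_ne_zero hR hT hr hr6 hxv0 heig (fun k a ha hk => eq_zero_of_orbit hh0 hPchar ha hk) hs
  have hCent : ∀ z ∈ S.Gbar, z * y = y * z → z ∈ S.Hbar := fun z hz hcomm => by
    refine mem_Hbar_of_commute S hS hR hM hθ (c := c0) (fun s hs h1 => hreg s hs ?_) (fun u hu => ?_) hz hcomm
    · rw [hchi, ← map_one g] at h1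
      exact Multiplicative.ofAdd.injective (hg h1)
    · refine act_eq_self hS hR hT hr.pos hreg fun s hs => ?_
      have h1 := hu s hs
      rw [hchi, hchi] at h1
      exact (Multiplicative.ofAdd.injective (hg h1)).symm
  have hnG : S.nW w ∈ S.Gbar := by
    rw [S.Gbar_eq hR hS]; exact Subgroup.mem_sup_right (S.nW_mem_Nbar w)
  have hh1 : (S.nW w)⁻¹ * Qe ∈ S.Hbar := by
    refine hCent _ (mul_mem (inv_mem hnG) hQG) ?_
    rw [mul_assoc, mul_inv_eq_iff_eq_mul.1 hQy, ← e2]
    group
  have hQn : ∀ c, Qe * S.tau hS hR hM c * Qe⁻¹ = S.nW w * S.tau hS hR hM c * (S.nW w)⁻¹ := fun c => by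
    have h1 := S.Hbar_comm hS hR hM _ hh1 _ (htauH c)
    calc Qe * S.tau hS hR hM c * Qe⁻¹
        = S.nW w * (((S.nW w)⁻¹ * Qe) * S.tau hS hR hM c) * Qe⁻¹ := by group
      _ = _ := by rw [h1]; group
  -- the torus
  set M : Matrix (Fin D.rank) (Fin D.rank) ℤ := (q : ℤ) • 1 - P with hMdef
  obtain ⟨hTcard, hTcyc⟩ := ker_sub_cyclic (U := Kˣ) hh0 hPchar hNv hN
    (by rw [Nat.card_units, hcardK]; exact hdvdQ) hbad
  set T := (powHom (G := Kˣ) M).ker with hTdef
  have hqA : ∀ c : Fin D.rank → Kˣ, powMap (((q : ℤ) • (1 : Matrix _ _ ℤ)) * A) c = powMap A (c ^ q) := fun c => by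
    funext k
    simp only [powMap, Matrix.smul_mul, one_mul, Matrix.smul_apply, smul_eq_mul, Pi.pow_apply]
    exact Finset.prod_congr rfl fun j _ => by rw [← zpow_natCast (c j) q, ← _root_.zpow_mul]
  have hPA : ∀ c : Fin D.rank → Kˣ, ∀ k : Fin D.rank,
      powMap (P * A) c k = ∏ j : Fin D.rank, c j ^ D.cartan j (act D w' (D.simple k)) := fun c k => by
    refine Finset.prod_congr rfl fun j _ => congrArg (c j ^ ·) ?_
    have := congrFun (col_act hR w' (hR.simple_lt k k.2)) j
    simpa [col, hPdef, hA, cartanMat, Matrix.mul_apply, Matrix.mulVec, dotProduct] using this.symm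
  have hsplit : ∀ c : Fin D.rank → Kˣ, powMap (M * A) c * powMap (P * A) c = powMap A (c ^ q) := fun c => by
    rw [← powMap_add, ← add_mul, hMdef, sub_add_cancel, hqA]
  -- membership in `T`
  have hT1 : ∀ c, S.nW w * S.tau hS hR hM c * (S.nW w)⁻¹ = S.tau hS hR hM c ^ q → c ∈ T := by
    intro c hc
    rw [← map_pow] at hc
    have h1 : powMap (P * A) c = powMap A (c ^ q) := funext fun k => by
      rw [hPA, root_eq_of_conj S hS hR hM hc (hR.act_lt w' (hR.simple_lt k k.2)), hw',
        hR.act_act_reverse w (hR.simple_lt k k.2)]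
      rfl
    have h2 := hsplit c
    rw [h1, mul_eq_right, powMap_mul] at h2
    rw [hTdef, MonoidHom.mem_ker, powHom_apply]
    exact hroot_inj _ _ (h2.trans (powMap_one_right A).symm)
  have hT2 : ∀ c ∈ T, S.nW w * S.tau hS hR hM c * (S.nW w)⁻¹ = S.tau hS hR hM c ^ q := by
    intro c hc
    have h1 : S.nW w * S.tau hS hR hM c * (S.nW w)⁻¹ ∈ S.Hbar := S.nW_conj_Hbar hS hR w (htauH c)
    rw [← S.tau_range hS hR hM] at h1
    obtain ⟨c', hc'⟩ := h1
    rw [← map_pow, ← hc']
    congr 1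
    refine hroot_inj _ _ ?_
    rw [← hsplit c, powMap_mul, show powMap M c = 1 from hc, powMap_one_right, one_mul]
    funext k
    rw [hPA, root_eq_of_conj S hS hR hM hc'.symm (hR.act_lt w' (hR.simple_lt k k.2)), hw',
      hR.act_act_reverse w (hR.simple_lt k k.2)]
    rfl
  -- the centralizer of `x`
  let C : Subgroup ↥(D.group F) := Subgroup.centralizer {x}
  let η : ↥(D.group F) →* GL D.Idx K :=
    (MulAut.conj (γ : GL D.Idx K)).toMonoidHom.comp (e.comp (D.group F).subtype)
  have hη : Function.Injective η :=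
    (MulAut.conj (γ : GL D.Idx K)).injective.comp (he.comp (Subgroup.subtype_injective _))
  have hηapp : ∀ z, η z = (γ : GL D.Idx K) * e (z : GL D.Idx F) * (γ : GL D.Idx K)⁻¹ := fun z => rfl
  have himg : C.map η = T.map (S.tau hS hR hM) := by
    refine le_antisymm ?_ ?_
    · rintro _ ⟨z, hz, rfl⟩
      have hzx : z * x = x * z := (Subgroup.mem_centralizer_iff.1 hz x rfl).symm
      have hzy : η z * y = y * η z := by
        rw [show y = η x from hyx, ← map_mul, ← map_mul, hzx]
      have hzG : η z ∈ S.Gbar := by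
        rw [← hGK, hηapp]
        exact mul_mem (mul_mem γ.2 (map_mem_group (algebraMap F K) z.2)) (inv_mem γ.2)
      obtain ⟨c, hc⟩ := (S.tau_range hS hR hM).ge (hCent _ hzG hzy)
      refine ⟨c, hT1 c ?_, hc⟩
      have h1 := hconj (z : GL D.Idx F)
      rw [← hηapp, ← hc, hfrtau, hQn] at h1
      exact h1.symm
    · rintro _ ⟨c, hc, rfl⟩
      set d : GL D.Idx K := (γ : GL D.Idx K)⁻¹ * S.tau hS hR hM c * (γ : GL D.Idx K) with hd
      have hdG : d ∈ D.group K := mul_mem (mul_mem (inv_mem γ.2) (htau c)) γ.2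
      have hdfix : Matrix.GeneralLinearGroup.map (n := D.Idx) σ d = d := by
        show fr d = d
        rw [hd, map_mul, map_mul, map_inv, hfrtau, show fr (γ : GL D.Idx K) = Qe * γ by rw [hQe]; group,
          ← hT2 c hc, ← hQn]
        group
      obtain ⟨z, hz, hzd⟩ := Chev.FieldFix.fixed_mem_map hS hSF hR hU σ (algebraMap F K)
        (fun a ha => mem_range_of_pow_card (by rw [hq, ← hσ, ha])) hdG hdfix
      have hηz : η ⟨z, hz⟩ = S.tau hS hR hM c := by
        rw [hηapp]
        show (γ : GL D.Idx K) * Matrix.GeneralLinearGroup.map (algebraMap F K) z * _ = _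
        rw [hzd, hd]
        group
      refine ⟨⟨z, hz⟩, ?_, hηz⟩
      rw [SetLike.mem_coe, Subgroup.mem_centralizer_iff]
      rintro _ rfl
      apply hη
      rw [map_mul, map_mul, hηz, show η _ = y from hyx.symm]
      exact S.Hbar_comm hS hR hM _ (htauH c0) _ (htauH c)
  have eqv : ↥T ≃* ↥C :=
    ((T.equivMapOfInjective _ htinj).trans (MulEquiv.subgroupCongr himg.symm)).trans
      (C.equivMapOfInjective η hη).symm
  haveI : IsCyclic ↥C := isCyclic_of_surjective eqv eqv.surjective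
  exact ⟨inferInstance, by rw [← hTcard]; exact (Nat.card_congr eqv.toEquiv).symm⟩

/-- The main theorem. -/
theorem exists_cyclic {D : ChevalleyDatum}
    (hD : D ∈ [chevG2, chevB2, chevD4, chevF4, chevE6, chevE7, chevE8])
    {B : Matrix (Fin D.rank) (Fin D.rank) ℤ} {top : ℕ} (hT : TopData D B top)
    (hU : ∃ B : Fin D.rank → Fin D.rank → ℤ, ∀ i j : Fin D.rank,
      ∑ k : Fin D.rank, D.cartan j (D.simple k) * B k i = if j = i then 1 else 0)
    (hdet : (cartanMat D).det = ((1 : ℕ) : ℤ))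
    {L : List ℕ} (hLlen : L.length = D.rank) (hW : WeylOrder D L.prod)
    {h : ℕ} (hh : h ∈ L) (hh0 : 0 < h) (hhl : h.totient = D.rank)
    {F : Type u} [Field F] [Fintype F] {q : ℕ} (hq : Fintype.card F = q) (hF : OrderFormula D L 1 F)
    (hK : ∀ (K : Type) [Field K] [Fintype K], OrderFormula D L 1 K)
    {N : ℕ} (hNv : (cyclotomic h ℤ).eval (q : ℤ) = (N : ℤ)) (hN : N ≠ 0)
    (hbad : ∀ s : ℕ, s.Prime → s ∣ h → s ∣ N → ¬ s ^ 2 ∣ N)
    (r : ℕ) [Fact r.Prime] (hrN : r ∣ N) (hr6 : 6 < r) (hrh : ¬ r ∣ h) (hrW : ¬ r ∣ L.prod) :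
    ∃ H : Subgroup ↥(D.group F), IsCyclic ↥H ∧ Nat.card ↥H = N ∧
      Subgroup.centralizer (H : Set ↥(D.group F)) = H := by
  have hcardF : Nat.card F = q := by rw [Nat.card_eq_fintype_card, hq]
  have hdvdQ : N ∣ q ^ h - 1 := by
    have h1 : cyclotomic h ℤ ∣ X ^ h - 1 := cyclotomic.dvd_X_pow_sub_one h ℤ
    have h2 := Polynomial.eval_dvd (x := (q : ℤ)) h1
    rw [hNv, eval_sub, eval_pow, eval_X, eval_one, show (q : ℤ) ^ h - 1 = ((q ^ h - 1 : ℕ) : ℤ) by
      rw [Nat.cast_sub (Nat.one_le_pow _ _ (hq ▸ Fintype.card_pos))]; push_cast; rfl] at h2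
    exact Int.natCast_dvd_natCast.1 h2
  -- an element of order `r`
  have hrG : r ∣ Nat.card ↥(D.group F) := by
    obtain ⟨c, M, hc, hcard⟩ := hF
    rw [Nat.dvd_one.1 hc, one_mul, hcardF] at hcard
    rw [hcard]
    refine dvd_mul_of_dvd_right ((hrN.trans hdvdQ).trans (List.dvd_prod ?_)) _
    exact List.mem_map.2 ⟨h, hh, rfl⟩
  obtain ⟨x, hx⟩ := exists_prime_orderOf_dvd_card' r hrG
  obtain ⟨hcyc, hcard⟩ :=
    cyclic_centralizer hD hT hU hdet hLlen hW hh hh0 hhl hq hK hNv hN hbad r hrN hr6 hrh hrW hx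
  refine ⟨_, hcyc, hcard, ?_⟩
  refine le_antisymm (Subgroup.centralizer_le ?_) fun z hz => Subgroup.mem_centralizer_iff.2 fun a ha => ?_
  · rintro _ rfl
    exact Subgroup.mem_centralizer_iff.2 fun a ha => by rw [Set.mem_singleton_iff.1 ha]
  · haveI := hcyc
    letI : CommGroup ↥(Subgroup.centralizer ({x} : Set ↥(D.group F))) := IsCyclic.commGroup
    exact congrArg Subtype.val (mul_comm (⟨a, ha⟩ : ↥(Subgroup.centralizer ({x} : Set ↥(D.group F)))) ⟨z, hz⟩)

end Cfsg.Agent.CycTori
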